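import Cfsg.Agent.Lib.IsolatedRankTwo.MaxThree
import Cfsg.Agent.Lib.Fusion.SmallEssential
import Cfsg.Agent.Lib.PGroup.MetacyclicTwo

/-!
# Automorphisms stabilising short series; chains in groups of maximal class

* `pow_apply_mod`, `mem_of_stabilize`: automorphisms stabilising `K ≤ M ≤ P`.
* `frame_chain`: a characteristic chain with steps of order 3 in a 3-group of maximal class.
* `small_cases`: metacyclic criteria for small orders.
-/

set_option autoImplicit false
set_option linter.unusedSectionVars false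

namespace Cfsg.Agent.IsolatedRankTwo

open Subgroup
open scoped commutatorElement

universe u

variable {P : Type u} [Group P] [Finite P] {p : ℕ} [Fact p.Prime]

/-- Powers of an automorphism stabilising `K ≤ M ≤ P`, modulo `K`. -/
theorem pow_apply_mod {K M : Subgroup P} [K.Normal] {α : MulAut P} (hK : ∀ x ∈ K, α x ∈ K)
    (hM : ∀ u ∈ M, u⁻¹ * α u ∈ K) {x : P} (hx : x⁻¹ * α x ∈ M) (j : ℕ) :
    QuotientGroup.mk' K ((α ^ j) x) = QuotientGroup.mk' K x * QuotientGroup.mk' K (x⁻¹ * α x) ^ j := by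
  set π := QuotientGroup.mk' K with hπ
  have hcong : ∀ a b : P, π a = π b → π (α a) = π (α b) := by
    intro a b hab
    have h1 := hK _ (QuotientGroup.eq.mp hab)
    rw [map_mul, map_inv] at h1
    exact QuotientGroup.eq.mpr h1
  induction j with
  | zero => simp
  | succ j ih =>
    rw [← map_pow, ← map_mul] at ih
    rw [pow_succ' α, MulAut.mul_apply, hcong _ _ ih, map_mul α, map_pow α, map_mul, map_pow]
    have hc : π (α (x⁻¹ * α x)) = π (x⁻¹ * α x) := (QuotientGroup.eq.mpr (hM _ hx)).symm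
    rw [hc, pow_succ', ← mul_assoc, ← map_mul π x, mul_inv_cancel_left]

/-- An automorphism of order prime to `p` stabilising `K ≤ M ≤ P` is trivial modulo `K`. -/
theorem mem_of_stabilize (hP : IsPGroup p P) {K M : Subgroup P} [K.Normal] {α : MulAut P} {m : ℕ}
    (hαm : α ^ m = 1) (hco : Nat.Coprime m p) (hK : ∀ x ∈ K, α x ∈ K)
    (hM : ∀ u ∈ M, u⁻¹ * α u ∈ K) (hP' : ∀ x, x⁻¹ * α x ∈ M) (x : P) : x⁻¹ * α x ∈ K := by
  set π := QuotientGroup.mk' K with hπ
  have h1 := pow_apply_mod hK hM (hP' x) m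
  rw [hαm, MulAut.one_apply, eq_comm, mul_eq_left] at h1
  obtain ⟨k, hk⟩ := hP (x⁻¹ * α x)
  have h2 : π (x⁻¹ * α x) ^ p ^ k = 1 := by rw [← map_pow, hk, map_one]
  have h3 := pow_gcd_eq_one.mpr ⟨h1, h2⟩
  rw [(hco.pow_right k), pow_one] at h3
  exact (QuotientGroup.eq_one_iff _).mp h3

/-- A `p`-group with a cyclic subgroup of index at most `p` is metacyclic. -/
theorem isMetacyclic_of_zpowers (hP : IsPGroup p P) (a : P) (h : Nat.card P ≤ p * orderOf a) :
    Cfsg.IsMetacyclic P := by
  by_cases htop : zpowers a = ⊤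
  · exact RankTwoClass.isMetacyclic_of_isCyclic (isCyclic_iff_exists_zpowers_eq_top.mpr ⟨a, htop⟩)
  have hco : IsCoatom (zpowers a) := by
    refine ⟨htop, fun K hK => ?_⟩
    by_contra hK'
    have h1 := PGroup.mul_card_le_card hP hK
    have h2 := PGroup.mul_card_le_card hP (lt_top_iff_ne_top.mpr hK')
    rw [Subgroup.card_top] at h2
    rw [Nat.card_zpowers] at h1
    have := (Fact.out : p.Prime).one_lt
    have := orderOf_pos a
    nlinarith
  have hn := PGroup.normal_of_isCoatom hP hco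
  obtain ⟨b, -, hb⟩ := SetLike.exists_of_lt (lt_top_iff_ne_top.mpr htop)
  refine RankTwoClass.isMetacyclic_of_sup (N := zpowers a) inferInstance b (hco.2 _ ?_)
  exact lt_of_le_of_ne le_sup_left fun he => hb (he ▸ mem_sup_right (mem_zpowers b))

theorem isMetacyclic_of_card_le_sq (hP : IsPGroup p P) (h : Nat.card P ≤ p ^ 2) :
    Cfsg.IsMetacyclic P := by
  have hp := (Fact.out : p.Prime)
  by_cases hs : ∀ a : P, a = 1
  · refine RankTwoClass.isMetacyclic_of_isCyclic (isCyclic_iff_exists_zpowers_eq_top.mpr ⟨1, ?_⟩)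
    exact eq_top_iff.mpr fun b _ => by rw [hs b]; exact one_mem _
  push Not at hs
  obtain ⟨a, ha⟩ := hs
  refine isMetacyclic_of_zpowers hP a (h.trans ?_)
  obtain ⟨k, hk⟩ := IsPGroup.iff_orderOf.mp hP a
  have hk0 : k ≠ 0 := fun hk0 => ha (orderOf_eq_one_iff.mp (by rw [hk, hk0, pow_zero]))
  rw [pow_two, hk]
  exact Nat.mul_le_mul_left _ (Nat.le_self_pow hk0 p)

/-- Small orders: metacyclic, or of order `p³` and exponent `p`. -/
theorem small_cases {m : ℕ} (hm : Nat.card P = p ^ m) (hm3 : m ≤ 3) :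
    Cfsg.IsMetacyclic P ∨ (m = 3 ∧ ∀ a : P, a ^ p = 1) := by
  have hP : IsPGroup p P := IsPGroup.of_card hm
  have hp := (Fact.out : p.Prime)
  rcases Nat.lt_or_ge m 3 with h | h
  · exact Or.inl (isMetacyclic_of_card_le_sq hP (hm ▸ Nat.pow_le_pow_right hp.pos (by omega)))
  by_cases hex : ∀ a : P, a ^ p = 1
  · exact Or.inr ⟨by omega, hex⟩
  push Not at hex
  obtain ⟨a, ha⟩ := hex
  refine Or.inl (isMetacyclic_of_zpowers hP a ?_)
  obtain ⟨k, hk⟩ := IsPGroup.iff_orderOf.mp hP a
  have hk2 : 2 ≤ k := by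
    by_contra hk2
    refine ha (orderOf_dvd_iff_pow_eq_one.mp ?_)
    rw [hk]
    exact (pow_dvd_pow p (show k ≤ 1 by omega)).trans (by rw [pow_one])
  rw [hm, hk, ← pow_succ']
  exact Nat.pow_le_pow_right hp.pos (by omega)

omit [Fact p.Prime] in
/-- A 3-group of maximal class and rank at most two has a characteristic chain with steps of order 3. -/
theorem frame_chain {E : Subgroup P} {n : ℕ} (h : Frame E n) :
    ∃ f : ℕ → Subgroup P, f 0 = ⊥ ∧ f n = ⊤ ∧ (∀ i < n, f i ≤ f (i + 1)) ∧
      (∀ i < n, Nat.card (f (i + 1)) ≤ 3 * Nat.card (f i)) ∧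
      ∀ i ≤ n, ∀ α : MulAut P, ∀ x ∈ f i, α x ∈ f i := by
  have : Fact (Nat.Prime 3) := ⟨Nat.prime_three⟩
  have h4 := h.four
  have hn3 : 3 ≤ n := by omega
  have := h.normal
  have hEidx : E.index = 3 ^ (n - 2) := by
    have := E.card_mul_index
    rw [h.cardE, h.card, show (3 : ℕ) ^ n = 3 ^ 2 * 3 ^ (n - 2) by rw [← pow_add]; congr 1; omega] at this
    exact Nat.eq_of_mul_eq_mul_left (by norm_num) this
  have hEeq := PGroup.normal_eq_lcs_of_maximal hn3 h.card h.cls E (show 2 ≤ n - 2 by omega) hEidx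
  have hlcs : ∀ i, ∀ α : MulAut P, ∀ x ∈ (⊤ : Subgroup P).lowerCentralSeries i,
      α x ∈ (⊤ : Subgroup P).lowerCentralSeries i := by
    intro i α
    induction i with
    | zero => intro x _; simp
    | succ i ih =>
      intro x hx
      rw [Subgroup.lowerCentralSeries_succ] at hx ⊢
      have h1 : α.toMonoidHom x ∈ (⁅(⊤ : Subgroup P).lowerCentralSeries i, (⊤ : Subgroup P)⁆).map α.toMonoidHom :=
        mem_map_of_mem _ hx
      rw [map_commutator] at h1
      refine commutator_mono ?_ le_top h1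
      rintro _ ⟨w, hw, rfl⟩
      exact ih w hw
  have hcard : ∀ i, i ≤ n - 2 → Nat.card ↥((⊤ : Subgroup P).lowerCentralSeries (n - 1 - i)) = 3 ^ i := by
    intro i hi
    rw [PGroup.card_lcs_of_maximal hn3 h.card h.cls (by omega) (by omega)]
    congr 1
    omega
  refine ⟨fun i => if i ≤ n - 2 then (⊤ : Subgroup P).lowerCentralSeries (n - 1 - i)
    else if i = n - 1 then centralizer (E : Set P) else ⊤, ?_, ?_, ?_, ?_, ?_⟩
  · dsimp only
    rw [if_pos (Nat.zero_le _), ← Subgroup.card_eq_one]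
    simpa using hcard 0 (Nat.zero_le _)
  · dsimp only
    rw [if_neg (by omega), if_neg (by omega)]
  · intro i hi
    dsimp only
    by_cases h1 : i + 1 ≤ n - 2
    · rw [if_pos (show i ≤ n - 2 by omega), if_pos h1]
      exact Subgroup.lowerCentralSeries_antitone _ (by omega)
    by_cases h2 : i + 1 = n - 1
    · rw [if_pos (show i ≤ n - 2 by omega), if_neg h1, if_pos h2, show n - 1 - i = 1 by omega,
        Subgroup.top_lowerCentralSeries_one]
      have := h.normal_centralizer
      have hq : Nat.card (P ⧸ centralizer (E : Set P)) = 3 := by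
        rw [← Subgroup.index_eq_card]; exact h.index_centralizer
      have hcy : IsCyclic (P ⧸ centralizer (E : Set P)) := isCyclic_of_prime_card hq
      refine commutator_le.mpr fun a _ b _ => ?_
      rw [← QuotientGroup.eq_one_iff]
      show QuotientGroup.mk' _ ⁅a, b⁆ = 1
      rw [map_commutatorElement, commutatorElement_eq_one_iff_mul_comm]
      exact hcy.isMulCommutative.is_comm.comm _ _
    · rw [if_neg h1, if_neg h2]
      exact le_top
  · intro i hi
    dsimp only
    by_cases h1 : i + 1 ≤ n - 2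
    · rw [if_pos (show i ≤ n - 2 by omega), if_pos h1, hcard i (by omega), hcard (i + 1) h1, pow_succ']
    by_cases h2 : i + 1 = n - 1
    · rw [if_pos (show i ≤ n - 2 by omega), if_neg h1, if_pos h2, hcard i (by omega), h.card_centralizer, ← pow_succ']
      exact Nat.pow_le_pow_right (by norm_num) (by omega)
    · rw [if_neg h1, if_neg h2, if_neg (show ¬ i ≤ n - 2 by omega), if_pos (show i = n - 1 by omega),
        Subgroup.card_top, h.card, h.card_centralizer, ← pow_succ']
      exact Nat.pow_le_pow_right (by norm_num) (by omega)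
  · intro i _ α x hx
    dsimp only at hx ⊢
    split_ifs at hx ⊢
    · exact hlcs _ α x hx
    · rw [mem_centralizer_iff] at hx ⊢
      intro e he
      rw [SetLike.mem_coe, hEeq] at he
      have h1 := hx (α⁻¹ e) (by rw [SetLike.mem_coe, hEeq]; exact hlcs _ α⁻¹ e he)
      have h2 := congrArg α h1
      simpa using h2
    · trivial

/-- In a group where elements of order `p` commute neither family occurs. -/
theorem family_commute_false {m : ℕ} (hm : Nat.card P = p ^ m) (hm4 : 4 ≤ m)
    (hcomm : ∀ a b : P, a ^ p = 1 → b ^ p = 1 → Commute a b) {s t : ℕ} (hs : ¬ p ∣ s) {x y z : P}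
    (hgen : closure ({x, y, z} : Set P) = ⊤) (hx : x ^ p = 1) (hy : y ^ p = 1)
    (hz : z ^ p ^ (m - 2) = 1) (hyz : y * z = z * y) (h1 : x⁻¹ * y * x = y * z ^ (s * p ^ (m - 3)))
    (h2 : x⁻¹ * z * x = y ^ t * z) : False := by
  obtain ⟨k, rfl⟩ : ∃ k, m = k + 4 := ⟨m - 4, by omega⟩
  rw [show k + 4 - 2 = k + 2 by omega] at hz
  rw [show k + 4 - 3 = k + 1 by omega] at h1
  have ho := orderOf_of_data hm hgen hx hy hz hyz h1 h2
  have hxy : x⁻¹ * y * x = y := by rw [mul_assoc, (hcomm y x hy hx).eq, inv_mul_cancel_left]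
  rw [hxy, eq_comm, mul_eq_left, ← orderOf_dvd_iff_pow_eq_one, ho,
    pow_succ' p (k + 1), Nat.mul_dvd_mul_iff_right (pow_pos (Fact.out : p.Prime).pos _)] at h1
  exact hs h1

end Cfsg.Agent.IsolatedRankTwo
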