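import Cfsg.Agent.Lib.IsolatedRankTwo.AutChain
import Cfsg.Agent.Lib.Fusion.Group
import Cfsg.Agent.Lib.Transfer.Fusion

/-!
# A perfect group with an element of a Sylow subgroup fixed by fusion

* `Fixed S y`: perfect group, `y ∈ S` of order `p` fixed by fusion in `S`, rank at most two.
* `Fixed.hom_eq_one`: stable homomorphisms are trivial.
* `Fixed.false_of_flag`: a fixed flag on `S` together with no image `C_p ≀ C_p` is impossible.
* `Fixed.false_of_metacyclic`: essential subgroups containing `y` are not metacyclic.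
-/

set_option autoImplicit false
set_option linter.unusedSectionVars false

namespace Cfsg.Agent.IsolatedRankTwo

open Subgroup Cfsg Cfsg.FusionSystem Cfsg.Agent.Fusion
open scoped commutatorElement

universe u

variable {L : Type u} [Group L] [Finite L] {p : ℕ} [Fact p.Prime]

/-- `y ∈ S` of order `p` is fixed by fusion, the group is perfect, the rank is at most two. -/
structure Fixed (S : Sylow p L) (y : L) : Prop where
  odd : p ≠ 2
  mem : y ∈ (S : Subgroup L)
  ord : orderOf y = p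
  fix : ∀ g : L, g * y * g⁻¹ ∈ (S : Subgroup L) → g * y * g⁻¹ = y
  perfect : commutator L = ⊤
  rank : Cfsg.PRankLE p 2 ↥(S : Subgroup L)

namespace Fixed

variable {S : Sylow p L} {y : L} (h : Fixed S y)

include h

theorem saturated : (groupFusionSystem (S : Subgroup L)).IsSaturated p := groupFusionSystem_saturated S

theorem aut_fix {R : Subgroup L} (hR : R ≤ (S : Subgroup L)) (hy : y ∈ R) {α : MulAut R}
    (hα : α ∈ (groupFusionSystem (S : Subgroup L)).autGroup R) : α ⟨y, hy⟩ = ⟨y, hy⟩ := by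
  rw [group_autGroup hR, mem_autInducedBy_iff] at hα
  obtain ⟨g, -, hg⟩ := hα
  refine Subtype.ext ?_
  rw [hg]
  exact h.fix g (hg ⟨y, hy⟩ ▸ hR (α ⟨y, hy⟩).2)

theorem ne_one : y ≠ 1 := fun e => by
  have := h.ord
  rw [e, orderOf_one] at this
  exact (Fact.out : p.Prime).one_lt.ne this

theorem central : (S : Subgroup L) ≤ centralizer ({y} : Set L) := fun s hs => by
  rw [mem_centralizer_singleton_iff]
  exact mul_inv_eq_iff_eq_mul.mp (h.fix s (mul_mem (mul_mem hs h.mem) (inv_mem hs)))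

theorem mem_center : (⟨y, h.mem⟩ : ↥(S : Subgroup L)) ∈ center ↥(S : Subgroup L) :=
  mem_center_iff.mpr fun s => Subtype.ext (mem_centralizer_singleton_iff.mp (h.central s.2))

theorem mem_of_centric {R : Subgroup L} (hR : (groupFusionSystem (S : Subgroup L)).IsCentric R) :
    y ∈ R :=
  hR.2 R ((group_isConj_iff).2 ⟨hR.1, hR.1, 1, by ext; simp⟩)
    ⟨h.mem, mem_centralizer_iff.mpr fun r hr =>
      mem_centralizer_singleton_iff.mp (h.central (hR.1 hr))⟩

/-- In a perfect group a stable homomorphism on a Sylow subgroup is trivial. -/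
theorem hom_eq_one (θ : ↥(S : Subgroup L) →* Multiplicative (ZMod p))
    (hst : ∀ (P : Subgroup L) (φ : P →* L) (hφ : φ ∈ (groupFusionSystem (S : Subgroup L)).Hom P) (x : P),
      θ ⟨φ x, apply_mem hφ x⟩ = θ ⟨x, dom_le hφ x.2⟩) : θ = 1 := by
  have hfoc : (S : Subgroup L).focalSubgroup ≤ θ.ker.map (S : Subgroup L).subtype := by
    rw [Subgroup.focalSubgroup_def, closure_le]
    rintro _ ⟨hz, x, hx, g, rfl⟩
    refine ⟨⟨⁅x, g⁆, hz⟩, ?_, rfl⟩
    have hy' : g * x⁻¹ * g⁻¹ ∈ (S : Subgroup L) := by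
      have := mul_mem (inv_mem hx) hz
      simpa [commutatorElement_def, mul_assoc] using this
    have hφ : conjHom (zpowers x⁻¹) g ∈ (groupFusionSystem (S : Subgroup L)).Hom (zpowers x⁻¹) := by
      refine mem_groupHom.2 ⟨zpowers_le.mpr (inv_mem hx), fun w => ?_, g, fun w => rfl⟩
      obtain ⟨i, hi⟩ := mem_zpowers_iff.mp w.2
      show g * (w : L) * g⁻¹ ∈ _
      rw [← hi, ← conj_zpow]
      exact zpow_mem hy' i
    have h1 := hst _ _ hφ ⟨x⁻¹, mem_zpowers _⟩
    rw [SetLike.mem_coe, MonoidHom.mem_ker]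
    have e : (⟨⁅x, g⁆, hz⟩ : ↥(S : Subgroup L)) = ⟨x, hx⟩ * ⟨g * x⁻¹ * g⁻¹, hy'⟩ :=
      Subtype.ext (by simp [commutatorElement_def, mul_assoc])
    rw [e, map_mul]
    have h2 : θ ⟨g * x⁻¹ * g⁻¹, hy'⟩ = θ ⟨x⁻¹, inv_mem hx⟩ := h1
    rw [h2, ← map_mul]
    exact map_one θ ▸ congrArg θ (Subtype.ext (mul_inv_cancel x))
  have hco : Nat.Coprime (Nat.card (S : Subgroup L)) (S : Subgroup L).index := by
    obtain ⟨m, hm⟩ := IsPGroup.iff_card.mp S.2
    rw [hm]
    exact Nat.Coprime.pow_left m ((Fact.out : p.Prime).coprime_iff_not_dvd.mpr S.not_dvd_index)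
  rw [← Transfer.commutator_inf_eq_focalSubgroup_of_coprime _
    (Transfer.coprime_index_of_coprime_card hco), h.perfect, top_inf_eq] at hfoc
  ext s
  obtain ⟨t, ht, hts⟩ := hfoc s.2
  rw [← (Subtype.ext hts : t = s), MonoidHom.mem_ker.mp ht]
  rfl

theorem false_of_flag (hflag : HasFixedFlag p (⟨y, h.mem⟩ : ↥(S : Subgroup L)))
    (hW : ¬ ∃ f : ↥(S : Subgroup L) →* Fusion.Yoshida.C p ≀ᵣ Fusion.Yoshida.C p, Function.Surjective f) :
    False := by
  set F := groupFusionSystem (S : Subgroup L)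
  obtain ⟨-, R, hR⟩ := isFullyAutomized_self (F := F) S.2 h.saturated
  have hidx : ¬ p ∣ (Inn (S : Subgroup L)).relIndex (F.autGroup (S : Subgroup L)) := by
    rw [Subgroup.relIndex, ← autInducedBy_self, ← hR]
    exact R.not_dvd_index
  obtain ⟨θ, hθ, hinv⟩ := exists_invariant_hom hflag (F.autGroup (S : Subgroup L)) (Inn (S : Subgroup L))
    (inn_le_autGroup F le_rfl) (fun α hα => h.aut_fix le_rfl h.mem hα) hidx (by
      rintro _ ⟨g, rfl⟩ θ x
      rw [MulAut.conj_apply, map_mul, map_mul, map_inv, mul_inv_cancel_comm])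
  exact hθ (h.hom_eq_one θ fun P φ hφ x =>
    Fusion.Yoshida.stable_of_aut S.2 h.saturated hW θ hinv hφ x)

/-- Essential subgroups are not metacyclic. -/
theorem false_of_metacyclic {R : Subgroup L}
    (hR : (groupFusionSystem (S : Subgroup L)).IsEssential p R) (hm : Cfsg.IsMetacyclic ↥R) : False := by
  have hRS : R ≤ (S : Subgroup L) := hR.1.1
  have hy := h.mem_of_centric hR.1
  have hP : IsPGroup p ↥R := S.2.to_le hRS
  obtain ⟨a, b, H⟩ := PGroup.exists_metaGen hm
  obtain ⟨K, hΦK, hK1, hK2, hKinv⟩ := exists_line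
    (metacyclic_flag hP h.odd hm (y := (⟨y, hy⟩ : ↥R)) fun e => h.ne_one (congrArg Subtype.val e)) hP
    (H.index_frattini_le hP)
  set A := (groupFusionSystem (S : Subgroup L)).autGroup R with hA
  have hfin := finite_autGroup (F := groupFusionSystem (S : Subgroup L)) hRS
  let f : ℕ → Subgroup ↥R := fun i => if i = 0 then frattini ↥R else if i = 1 then K else ⊤
  have hchar : ∀ α : MulAut ↥R, ∀ x ∈ frattini ↥R, α x ∈ frattini ↥R := fun α x hx => by
    have := (PGroup.map_frattini hP α.toMonoidHom α.surjective).le (mem_map_of_mem _ hx)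
    exact this
  have hinv : ∀ i ≤ 2, ∀ α ∈ A, ∀ x ∈ f i, α x ∈ f i := by
    intro i _ α hα x hx
    simp only [f] at hx ⊢
    split_ifs at hx ⊢
    · exact hchar α x hx
    · exact hKinv α (h.aut_fix hRS hy hα) x hx
    · trivial
  have hT : IsPGroup p (SmallEss.chainStab A f 2 hinv) := by
    rintro ⟨α, hα⟩
    obtain ⟨k, m, hm', hk⟩ := Nat.exists_eq_pow_mul_and_not_dvd (orderOf_pos α).ne' p
      (Fact.out : p.Prime).ne_one
    refine ⟨k, Subtype.ext ?_⟩
    show α ^ p ^ k = 1
    have hβm : (α ^ p ^ k) ^ m = 1 := by rw [← pow_mul, ← hk, pow_orderOf_eq_one]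
    have hco : Nat.Coprime m p := Nat.coprime_comm.mp ((Fact.out : p.Prime).coprime_iff_not_dvd.mpr hm')
    obtain ⟨hβA, hβ⟩ := (SmallEss.chainStab A f 2 hinv).pow_mem hα (p ^ k)
    refine PGroup.MetacyclicTwo.aut_trivial_of_frattini hP
      (Nat.Coprime.coprime_dvd_left (orderOf_dvd_of_pow_eq_one hβm) hco) fun x => ?_
    refine mem_of_stabilize hP (M := K) hβm hco (hchar _) (fun u hu => ?_) (fun u => ?_) x
    · exact hβ 0 (by norm_num) u hu
    · exact hβ 1 (by norm_num) u (mem_top u)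
  obtain ⟨α, hα, ⟨k, hk⟩, hαI⟩ := SmallEss.exists_pElement_not_inn hR
  refine hαI (SmallEss.pGroup_le_inn hR (N := SmallEss.chainStab A f 2 hinv) (fun _ hx => hx.1)
    (fun β hβ c hc => SmallEss.chainStab_conj hinv hc hβ) hT ⟨hα, fun i hi x hx => ?_⟩)
  refine SmallEss.apply_inv_mul_mem (p := p) ?_ ?_ hk (hinv i hi.le α hα) (hinv (i + 1) hi α hα) hx
  · interval_cases i
    · exact hΦK
    · exact le_top
  · interval_cases i
    · exact hK1
    · show Nat.card ↥(⊤ : Subgroup ↥R) ≤ p * Nat.card K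
      rw [Subgroup.card_top]
      exact hK2

end Fixed

end Cfsg.Agent.IsolatedRankTwo
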