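import Cfsg.Agent.Lib.Fusion.Yoshida
import Cfsg.Agent.Lib.PGroup.MetacyclicCoset
import Cfsg.Agent.Lib.RankTwoClass.Main
import Cfsg.Agent.S0641

/-!
# Fixed flags of odd `p`-groups of rank at most two

* `HasFixedFlag p y`: a homomorphism onto a group of exponent `p` with a nontrivial value `w` such that
  every automorphism fixing `y` preserves all elements with value in `⟨w⟩`.
* `exists_invariant_hom`: averaging over a group of automorphisms.
* `metacyclic_flag`, `shape_flag`: flags for metacyclic groups and the two families of Blackburn.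
* `not_onto_wreath_*`: these groups do not map onto `C_p ≀ C_p`.
-/

set_option autoImplicit false

namespace Cfsg.Agent.IsolatedRankTwo

open Subgroup
open scoped commutatorElement

universe u

variable {P : Type u} [Group P] {p : ℕ}

/-- A homomorphism to a group of exponent `p` and a nontrivial value `w` such that automorphisms fixing
`y` fix the values in `⟨w⟩`. -/
def HasFixedFlag (p : ℕ) (y : P) : Prop :=
  ∃ (Q : Type u) (_ : CommGroup Q) (_ : Finite Q) (ψ : P →* Q) (w : Q),
    w ≠ 1 ∧ (∀ q : Q, q ^ p = 1) ∧ w ∈ ψ.range ∧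
      ∀ α : MulAut P, α y = y → ∀ u, ψ u ∈ zpowers w → ψ (α u) = ψ u

theorem hasFixedFlag_of_hom [Finite P] {y : P} {Q₀ : Type u} [Group Q₀] [Finite Q₀] (ψ : P →* Q₀)
    (w : Q₀) (hw : w ≠ 1) (hwr : w ∈ ψ.range) (hexp : ∀ u, ψ u ^ p = 1) (hcomm : ∀ u v, Commute (ψ u) (ψ v))
    (hfix : ∀ α : MulAut P, α y = y → ∀ u, ψ u ∈ zpowers w → ψ (α u) = ψ u) : HasFixedFlag p y := by
  let cg : CommGroup ψ.range :=
    { (inferInstance : Group ψ.range) with
      mul_comm := by
        rintro ⟨_, a, rfl⟩ ⟨_, b, rfl⟩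
        exact Subtype.ext (hcomm a b) }
  refine ⟨ψ.range, cg, inferInstance, ψ.rangeRestrict, ⟨w, hwr⟩, fun h => hw (congrArg Subtype.val h),
    ?_, ?_, ?_⟩
  · rintro ⟨_, u, rfl⟩
    exact Subtype.ext (by simpa using hexp u)
  · obtain ⟨u, hu⟩ := hwr
    exact ⟨u, Subtype.ext hu⟩
  · intro α hα u hu
    obtain ⟨i, hi⟩ := mem_zpowers_iff.mp hu
    refine Subtype.ext (hfix α hα u (mem_zpowers_iff.mpr ⟨i, ?_⟩))
    simpa using congrArg Subtype.val hi

variable [Finite P] [Fact p.Prime]

/-- A functional nontrivial on a given element. -/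
theorem exists_functional {Q : Type u} [CommGroup Q] [Finite Q] (hexp : ∀ q : Q, q ^ p = 1) {w : Q}
    (hw : w ≠ 1) : ∃ f : Q →* Multiplicative (ZMod p), f w ≠ 1 := by
  have hQ : IsPGroup p Q := fun q => ⟨1, by rw [pow_one, hexp]⟩
  have hb : frattini Q = ⊥ := by
    refine le_bot_iff.mp (PGroup.frattini_le (p := p) ?_ fun x => ?_)
    · rw [commutator_eq_bot]
    · rw [hexp x]
      exact one_mem _
  by_contra! hall
  refine hw ?_
  rw [← mem_bot, ← hb]
  refine PGroup.le_frattini_of_forall_coatom (H := zpowers w) (fun M hM => ?_) (mem_zpowers w)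
  obtain ⟨π, -, hπ⟩ := Fusion.Yoshida.exists_hom_ker_eq hQ hM
  rw [zpowers_le, ← hπ]
  exact hall π

/-- Averaging a functional over a group of automorphisms with a subgroup of index prime to `p`
fixing it. -/
theorem exists_invariant_hom {y : P} (hflag : HasFixedFlag p y) (A B : Subgroup (MulAut P))
    (_hBA : B ≤ A) (hA : ∀ α ∈ A, α y = y) (hidx : ¬ p ∣ B.relIndex A)
    (hB : ∀ β ∈ B, ∀ (θ : P →* Multiplicative (ZMod p)) (x : P), θ (β x) = θ x) :
    ∃ θ : P →* Multiplicative (ZMod p), θ ≠ 1 ∧ ∀ α ∈ A, ∀ x, θ (α x) = θ x := by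
  classical
  obtain ⟨Q, _, _, ψ, w, hw, hexp, ⟨u₀, hu₀⟩, hfix⟩ := hflag
  obtain ⟨f, hf⟩ := exists_functional hexp hw
  have hfin : Finite (MulAut P) :=
    Finite.of_injective (fun b : MulAut P => (b : P → P)) DFunLike.coe_injective
  let B' := B.subgroupOf A
  have := Fintype.ofFinite (A ⧸ B')
  let g : A → P → Multiplicative (ZMod p) := fun a x => f (ψ (((a : MulAut P)⁻¹) x))
  have hg : ∀ a b : A, (a : A ⧸ B') = b → g a = g b := by
    intro a b hab
    funext x
    obtain ⟨c, hc, rfl⟩ : ∃ c ∈ B', b = a * c :=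
      ⟨a⁻¹ * b, QuotientGroup.eq.mp hab, by group⟩
    have h := hB _ (inv_mem (show (c : MulAut P) ∈ B from hc)) (f.comp ψ) ((a : MulAut P)⁻¹ x)
    simp only [g, coe_mul, _root_.mul_inv_rev, MulAut.mul_apply]
    exact h.symm
  let θ : P →* Multiplicative (ZMod p) :=
    MonoidHom.mk' (fun x => ∏ q : A ⧸ B', g q.out x) fun a b => by
      rw [← Finset.prod_mul_distrib]
      simp [g]
  refine ⟨θ, fun h => hf ?_, fun α hα x => ?_⟩
  · have hval : ∀ q : A ⧸ B', g q.out u₀ = f w := fun q => by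
      simp only [g]
      rw [hfix _ (hA _ (A.inv_mem q.out.2)) u₀ (hu₀ ▸ mem_zpowers w), hu₀]
    have h1 : f w ^ Nat.card (A ⧸ B') = 1 := by
      have : θ u₀ = 1 := by rw [h, MonoidHom.one_apply]
      rw [← this, Nat.card_eq_fintype_card, ← Finset.card_univ, ← Finset.prod_const]
      exact Finset.prod_congr rfl fun q _ => (hval q).symm
    have h2 : f w ^ p = 1 := by rw [← map_pow, hexp, map_one]
    have h3 := pow_gcd_eq_one.mpr ⟨h1, h2⟩
    have hco : (Nat.card (A ⧸ B')).gcd p = 1 :=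
      Nat.coprime_comm.mp ((Fact.out : p.Prime).coprime_iff_not_dvd.mpr hidx)
    rwa [hco, pow_one] at h3
  · show ∏ q : A ⧸ B', g q.out (α x) = ∏ q : A ⧸ B', g q.out x
    refine Fintype.prod_equiv (MulAction.toPerm ((⟨α, hα⟩ : A)⁻¹)) _ _ fun q => ?_
    have h : (((⟨α, hα⟩ : A)⁻¹ * q.out : A) : A ⧸ B') = ((⟨α, hα⟩ : A)⁻¹ • q : A ⧸ B') := by
      conv_rhs => rw [← QuotientGroup.out_eq' q]
      rfl
    have e : g q.out (α x) = g ((⟨α, hα⟩ : A)⁻¹ * q.out) x := by
      simp only [g, coe_mul, _root_.mul_inv_rev, InvMemClass.coe_inv, inv_inv, MulAut.mul_apply]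
    rw [e, hg _ (((⟨α, hα⟩ : A)⁻¹ • q : A ⧸ B')).out (by rw [h, QuotientGroup.out_eq'])]
    rfl

/-- With Frattini index at most `p²` a flag gives a proper subgroup over the Frattini subgroup
invariant under every automorphism fixing `y`. -/
theorem exists_line {y : P} (hflag : HasFixedFlag p y) (hP : IsPGroup p P)
    (hΦ : (frattini P).index ≤ p ^ 2) :
    ∃ L : Subgroup P, frattini P ≤ L ∧ Nat.card L ≤ p * Nat.card (frattini P) ∧
      Nat.card P ≤ p * Nat.card L ∧ ∀ α : MulAut P, α y = y → ∀ x ∈ L, α x ∈ L := by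
  obtain ⟨Q, _, _, ψ, w, hw, hexp, ⟨u₀, hu₀⟩, hfix⟩ := hflag
  have hp := (Fact.out : p.Prime)
  have hΦψ : ∀ L : Subgroup Q, frattini P ≤ L.comap ψ := fun L =>
    le_trans (PGroup.frattini_le (p := p) (Abelianization.commutator_subset_ker ψ) fun x => by
      rw [MonoidHom.mem_ker, map_pow, hexp]) (fun x hx => by
        rw [mem_comap, MonoidHom.mem_ker.mp hx]; exact one_mem _)
  have hwcard : Nat.card (zpowers w) = p := by
    rw [Nat.card_zpowers, orderOf_eq_prime (hexp w) hw]
  have hsize : ∀ L : Subgroup P, frattini P ≤ L → frattini P ≠ L → L ≠ ⊤ →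
      Nat.card L ≤ p * Nat.card (frattini P) ∧ Nat.card P ≤ p * Nat.card L := by
    intro L hL hne htop
    have h1 := PGroup.mul_card_le_card hP (lt_of_le_of_ne hL hne)
    have h2 := PGroup.mul_card_le_card hP (lt_top_iff_ne_top.mpr htop)
    rw [Subgroup.card_top] at h2
    have h3 : Nat.card P ≤ p ^ 2 * Nat.card (frattini P) := by
      rw [← (frattini P).card_mul_index, mul_comm]
      exact Nat.mul_le_mul_right _ hΦ
    refine ⟨?_, ?_⟩
    · refine Nat.le_of_mul_le_mul_left ?_ hp.pos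
      calc p * Nat.card L ≤ Nat.card P := h2
        _ ≤ _ := h3.trans (by rw [pow_two, mul_assoc])
    · calc Nat.card P ≤ p ^ 2 * Nat.card (frattini P) := h3
        _ = p * (p * Nat.card (frattini P)) := by ring
        _ ≤ p * Nat.card L := Nat.mul_le_mul_left _ h1
  have hu₀k : u₀ ∉ ψ.ker := fun h => hw (hu₀ ▸ h)
  by_cases htop : (zpowers w).comap ψ = ⊤
  · have hkne : ψ.ker ≠ ⊤ := fun h => hu₀k (h ▸ Subgroup.mem_top u₀)
    have hkeq : Nat.card P = p * Nat.card ψ.ker := by
      have hr : ψ.range = zpowers w := by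
        refine le_antisymm ?_ (zpowers_le.mpr ⟨u₀, hu₀⟩)
        rintro _ ⟨u, rfl⟩
        exact (htop ▸ Subgroup.mem_top u : u ∈ (zpowers w).comap ψ)
      rw [← ψ.ker.card_mul_index, Subgroup.index_ker, hr, hwcard, mul_comm]
    have hΦk : frattini P ≤ ψ.ker := by simpa [MonoidHom.comap_bot] using hΦψ ⊥
    refine ⟨ψ.ker, hΦk, ?_, hkeq.le, fun α hα x hx => ?_⟩
    · refine Nat.le_of_mul_le_mul_left ?_ hp.pos
      calc p * Nat.card ψ.ker = Nat.card P := hkeq.symm
        _ = Nat.card (frattini P) * (frattini P).index := (card_mul_index _).symm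
        _ ≤ Nat.card (frattini P) * p ^ 2 := Nat.mul_le_mul_left _ hΦ
        _ = p * (p * Nat.card (frattini P)) := by ring
    · rw [MonoidHom.mem_ker] at hx ⊢
      rw [hfix α hα x (by rw [hx]; exact one_mem _), hx]
  · refine ⟨(zpowers w).comap ψ, hΦψ _, (hsize _ (hΦψ _) (fun h => hu₀k ?_) htop).1,
      (hsize _ (hΦψ _) (fun h => hu₀k ?_) htop).2, fun α hα x hx => ?_⟩
    · have h1 : u₀ ∈ frattini P := by
        rw [h, mem_comap, hu₀]
        exact mem_zpowers w
      simpa [MonoidHom.comap_bot] using hΦψ ⊥ h1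
    · have h1 : u₀ ∈ frattini P := by
        rw [h, mem_comap, hu₀]
        exact mem_zpowers w
      simpa [MonoidHom.comap_bot] using hΦψ ⊥ h1
    · rw [mem_comap] at hx ⊢
      rwa [hfix α hα x hx]

/-! ### Wreath products -/

open Fusion.Yoshida in
theorem wreath_mul_pow_ne :
    ∃ a b : C p ≀ᵣ C p, a ^ p = 1 ∧ b ^ p = 1 ∧ (a * b) ^ p ≠ 1 := by
  classical
  set g : C p := Multiplicative.ofAdd 1 with hg
  have hgp : ∀ c : C p, c ^ p = 1 := fun c => by simpa [card_C p] using pow_card_eq_one' (x := c)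
  have hg1 : g ≠ 1 := by
    intro h
    exact one_ne_zero (ofAdd_eq_one.mp h)
  have hgo : orderOf g = p := orderOf_eq_prime (hgp g) hg1
  let δ : C p → C p := fun x => if x = 1 then g else 1
  refine ⟨⟨δ, 1⟩, ⟨1, g⟩, ?_, ?_, ?_⟩
  · have : ∀ m : ℕ, (⟨δ, 1⟩ : C p ≀ᵣ C p) ^ m = ⟨δ ^ m, 1⟩ := fun m => by
      induction m with
      | zero => simp only [pow_zero]; rfl
      | succ m ih =>
        rw [pow_succ, ih, pow_succ]
        refine RegularWreathProduct.ext (funext fun x => ?_) (one_mul 1)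
        simp
    rw [this]
    exact RegularWreathProduct.ext (funext fun x => hgp _) rfl
  · have : ∀ m : ℕ, (⟨1, g⟩ : C p ≀ᵣ C p) ^ m = ⟨1, g ^ m⟩ := fun m => by
      induction m with
      | zero => simp only [pow_zero]; rfl
      | succ m ih =>
        rw [pow_succ, ih, pow_succ]
        refine RegularWreathProduct.ext (funext fun x => ?_) rfl
        simp
    rw [this, hgp]
    rfl
  · have hform : ∀ m : ℕ, ((⟨δ, 1⟩ * ⟨1, g⟩ : C p ≀ᵣ C p) ^ m).right = g ^ m ∧
        ∀ x, ((⟨δ, 1⟩ * ⟨1, g⟩ : C p ≀ᵣ C p) ^ m).left x = ∏ i ∈ Finset.range m, δ ((g ^ i)⁻¹ * x) := by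
      intro m
      induction m with
      | zero => simp
      | succ m ih =>
        refine ⟨?_, fun x => ?_⟩
        · rw [pow_succ, RegularWreathProduct.mul_right, ih.1, pow_succ]
          simp
        · rw [pow_succ, RegularWreathProduct.mul_left, Finset.prod_range_succ]
          simp [ih.1, ih.2]
    intro h
    have h1 := congrFun (congrArg RegularWreathProduct.left h) 1
    rw [(hform p).2, Finset.prod_eq_single 0, pow_zero, inv_one, one_mul] at h1
    · exact hg1 (by simpa [δ] using h1)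
    · intro i hi hi0
      rw [mul_one]
      simp only [δ]
      rw [if_neg]
      intro e
      refine pow_ne_one_of_lt_orderOf hi0 ?_ (inv_eq_one.mp e)
      rw [hgo]
      exact Finset.mem_range.mp hi
    · intro h0
      exact absurd (Finset.mem_range.mpr (Fact.out : p.Prime).pos) h0

open Fusion.Yoshida in
theorem wreath_pow_eq_one {w : C p ≀ᵣ C p} (hw : w.right = 1) : w ^ p = 1 := by
  have hgp : ∀ c : C p, c ^ p = 1 := fun c => by simpa [card_C p] using pow_card_eq_one' (x := c)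
  have : ∀ m : ℕ, (w ^ m).right = 1 ∧ ∀ x, (w ^ m).left x = w.left x ^ m := fun m => by
    induction m with
    | zero => simp
    | succ m ih =>
      refine ⟨by rw [pow_succ, RegularWreathProduct.mul_right, ih.1, hw, one_mul], fun x => ?_⟩
      rw [pow_succ, RegularWreathProduct.mul_left, pow_succ]
      simp [ih.1, ih.2]
  exact RegularWreathProduct.ext (funext fun x => by rw [(this p).2, hgp]; rfl) (this p).1

open Fusion.Yoshida in
theorem wreath_pow_sq (w : C p ≀ᵣ C p) : w ^ p ^ 2 = 1 := by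
  have hgp : ∀ c : C p, c ^ p = 1 := fun c => by simpa [card_C p] using pow_card_eq_one' (x := c)
  rw [pow_two, pow_mul]
  refine wreath_pow_eq_one ?_
  have : ∀ m : ℕ, (w ^ m).right = w.right ^ m := fun m => by
    induction m with
    | zero => simp
    | succ m ih => rw [pow_succ, RegularWreathProduct.mul_right, ih, pow_succ]
  rw [this, hgp]

omit [Finite P] in
open Fusion.Yoshida in
/-- A power rule that survives in every image of exponent `p²` with elementary derived subgroup
excludes `C_p ≀ C_p` as an image. -/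
theorem not_onto_wreath
    (h : ∀ f : P →* C p ≀ᵣ C p, ∀ u v : P, f ((u * v) ^ p) = f (u ^ p) * f (v ^ p)) :
    ¬ ∃ f : P →* C p ≀ᵣ C p, Function.Surjective f := by
  rintro ⟨f, hf⟩
  obtain ⟨a, b, ha, hb, hab⟩ := wreath_mul_pow_ne (p := p)
  obtain ⟨u, rfl⟩ := hf a
  obtain ⟨v, rfl⟩ := hf b
  refine hab ?_
  rw [← map_mul, ← map_pow, h f u v, map_pow, map_pow, ha, hb, one_mul]

end Cfsg.Agent.IsolatedRankTwo
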