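import Cfsg.Agent.Lib.IsolatedRankTwo.Shapes
import Cfsg.Agent.Lib.Fusion.MetacyclicOmega
import Cfsg.Agent.Lib.Fusion.MaxClassBasics
import Cfsg.Agent.Lib.PGroup.MaximalClass
import Cfsg.Agent.Lib.IsolatedP.Cyclic

/-!
# `3`-groups of maximal class and rank at most two

`Frame`: a normal `E` of order 9 and exponent 3; `Γ = C(E)` has index 3, is metacyclic, and `Ω₁(Γ) = E`.
`card_centralizer_le`: elements of order 3 outside `Γ` have centralizer of order at most 9.
`exists_power_hom`: for even `n` a power map is a homomorphism from `Γ` onto the centre.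
-/

set_option autoImplicit false
set_option linter.unusedSectionVars false

namespace Cfsg.Agent.IsolatedRankTwo

open Subgroup
open scoped commutatorElement

universe u

variable {P : Type u} [Group P] [Finite P] {n : ℕ}

local instance : Fact (Nat.Prime 3) := ⟨Nat.prime_three⟩

/-- A 3-group of order `3^n`, maximal class and rank at most two, with a normal `E`. -/
structure Frame (E : Subgroup P) (n : ℕ) : Prop where
  four : 4 ≤ n
  card : Nat.card P = 3 ^ n
  cls : Group.nilpotencyClass P = n - 1
  rank : Cfsg.PRankLE 3 2 P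
  normal : E.Normal
  el : Cfsg.IsElementaryAbelian 3 E
  cardE : Nat.card E = 3 ^ 2

theorem class_eq_of_lcs {p : ℕ} [Fact p.Prime] (hn : 3 ≤ n) (hG : Nat.card P = p ^ n)
    (h : (⊤ : Subgroup P).lowerCentralSeries (n - 2) ≠ ⊥) : Group.nilpotencyClass P = n - 1 := by
  have := (IsPGroup.of_card hG).isNilpotent
  refine le_antisymm ?_ ?_
  · rw [← Subgroup.lowerCentralSeries_eq_bot_iff_nilpotencyClass_le]
    refine le_bot_iff.mp ((Subgroup.lowerCentralSeries_antitone _ (le_refl (n - 1))).trans ?_)
    exact (PGroup.lcs_eq_bot_of_card (by omega) hG).le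
  · rw [Ne, Subgroup.lowerCentralSeries_eq_bot_iff_nilpotencyClass_le] at h
    omega

theorem exists_frame (hn : 4 ≤ n) (hG : Nat.card P = 3 ^ n)
    (h : (⊤ : Subgroup P).lowerCentralSeries (n - 2) ≠ ⊥) (hr : Cfsg.PRankLE 3 2 P) :
    ∃ E : Subgroup P, Frame E n := by
  have hnc : ¬ IsCyclic P := PGroup.not_cyclic_of_lcs_ne_bot (by omega) h
  obtain ⟨E, hEn, hE, hE2⟩ := S0126.result (by norm_num) (IsPGroup.of_card hG) hnc
  exact ⟨E, hn, hG, class_eq_of_lcs (by omega) hG h, hr, hEn, hE, hE2⟩

namespace Frame

variable {E : Subgroup P} (h : Frame E n)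

include h

theorem isPGroup : IsPGroup 3 P := IsPGroup.of_card h.card

theorem card_center : Nat.card (center P) = 3 :=
  PGroup.card_center_of_maximal (by have := h.four; omega) h.card h.cls

theorem center_le : center P ≤ E := by
  have := h.normal
  have hne : E ≠ ⊥ := fun he => by
    have := h.cardE
    rw [he, Subgroup.card_bot] at this
    norm_num at this
  obtain ⟨e, he, hec, he3⟩ := PGroup.exists_orderOf_eq_mem_center h.isPGroup E hne
  have : center P = zpowers e := by
    refine (eq_of_le_of_card_ge (zpowers_le.mpr hec) ?_).symm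
    rw [h.card_center, Nat.card_zpowers, he3]
  rw [this, zpowers_le]
  exact he

theorem exists_noncentral : ∃ e ∈ E, e ∉ center P := by
  by_contra! hall
  have := card_le_of_le hall
  rw [h.cardE, h.card_center] at this
  norm_num at this

theorem centralizer_eq {e : P} (he : e ∈ E) (hec : e ∉ center P) :
    centralizer ({e} : Set P) = centralizer (E : Set P) := by
  refine le_antisymm (fun g hg => ?_) (centralizer_le (Set.singleton_subset_iff.mpr he))
  have hsup : center P ⊔ zpowers e = E := by
    refine eq_of_le_of_card_ge (sup_le h.center_le (zpowers_le.mpr he)) ?_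
    have hlt : center P < center P ⊔ zpowers e := lt_of_le_of_ne le_sup_left fun hh =>
      hec (hh ▸ mem_sup_right (mem_zpowers e))
    have := PGroup.mul_card_le_card h.isPGroup hlt
    rw [h.card_center] at this
    rw [h.cardE]
    simpa [pow_two] using this
  refine mem_centralizer_iff.mpr fun w hw => ?_
  have hle : E ≤ centralizer ({g} : Set P) := by
    rw [← hsup, sup_le_iff, zpowers_le, mem_centralizer_singleton_iff]
    exact ⟨fun c hc => mem_centralizer_singleton_iff.mpr (mem_center_iff.mp hc g).symm,
      (mem_centralizer_singleton_iff.mp hg).symm⟩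
  exact mem_centralizer_singleton_iff.mp (hle hw)

theorem normal_centralizer : (centralizer (E : Set P)).Normal := by
  have := h.normal
  infer_instance

theorem index_centralizer : (centralizer (E : Set P)).index = 3 := by
  have := h.normal
  obtain ⟨e, he, hec⟩ := h.exists_noncentral
  have hkey : ∀ g, g * e * g⁻¹ * e⁻¹ ∈ center P := fun g =>
    (RankTwoClass.commutator_mem_center h.isPGroup h.cardE he g).2
  let f : P →* P := MonoidHom.mk' (fun g => g * e * g⁻¹ * e⁻¹) fun a b => by
    have hb := mem_center_iff.mp (hkey b)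
    calc a * b * e * (a * b)⁻¹ * e⁻¹ = a * (b * e * b⁻¹ * e⁻¹) * (e * a⁻¹ * e⁻¹) := by group
      _ = a * e * a⁻¹ * e⁻¹ * (b * e * b⁻¹ * e⁻¹) := by
        rw [mul_assoc a, ← hb (e * a⁻¹ * e⁻¹)]; group
  have hker : f.ker = centralizer (E : Set P) := by
    rw [← h.centralizer_eq he hec]
    ext g
    rw [MonoidHom.mem_ker, mem_centralizer_singleton_iff]
    show g * e * g⁻¹ * e⁻¹ = 1 ↔ _
    rw [mul_inv_eq_one, mul_inv_eq_iff_eq_mul]
  have hle : f.range ≤ center P := by
    rintro _ ⟨g, rfl⟩
    exact hkey g
  have h3 : f.ker.index ≤ 3 := by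
    rw [Subgroup.index_ker]
    exact (card_le_of_le hle).trans h.card_center.le
  rw [← hker]
  have hne : f.ker ≠ ⊤ := fun htop => hec (mem_center_iff.mpr fun g => by
    have hg : g ∈ centralizer ({e} : Set P) := by
      rw [h.centralizer_eq he hec, ← hker, htop]
      exact mem_top g
    exact mem_centralizer_singleton_iff.mp hg)
  obtain ⟨r, hr⟩ := PGroup.index_eq_pow h.isPGroup f.ker
  rcases r with _ | _ | r
  · exact absurd (Subgroup.index_eq_one.mp (by simpa using hr)) hne
  · simpa using hr
  · have : 3 ^ 2 ≤ 3 ^ (r + 1 + 1) := Nat.pow_le_pow_right (by norm_num) (by omega)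
    omega

theorem card_centralizer : Nat.card (centralizer (E : Set P)) = 3 ^ (n - 1) := by
  have := (centralizer (E : Set P)).card_mul_index
  rw [h.index_centralizer, h.card] at this
  have e : (3 : ℕ) ^ n = 3 ^ (n - 1) * 3 := by rw [← pow_succ]; congr 1; have := h.four; omega
  omega

theorem mem_E {x : P} (hx : x ∈ centralizer (E : Set P)) (h3 : x ^ 3 = 1) : x ∈ E := by
  have := h.normal
  exact RankTwoClass.mem_of_centralizer (by norm_num) h.isPGroup h.rank h.el h.cardE hx h3

theorem E_le : E ≤ centralizer (E : Set P) := fun a ha =>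
  mem_centralizer_iff.mpr fun b hb => congrArg Subtype.val (h.el.1.is_comm.comm ⟨b, hb⟩ ⟨a, ha⟩)

theorem rank_subgroup (R : Subgroup P) : Cfsg.PRankLE 3 2 ↥R := IsolatedP.pRankLE_subgroup h.rank R

/-- A subgroup whose elements of order 3 commute and lie in `C(E)` is not of the two families. -/
theorem isMetacyclic_centralizer : Cfsg.IsMetacyclic ↥(centralizer (E : Set P)) := by
  have hcard := h.card_centralizer
  have hcomm : ∀ a b : ↥(centralizer (E : Set P)), a ^ 3 = 1 → b ^ 3 = 1 → Commute a b := by
    intro a b ha hb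
    have ha' := h.mem_E a.2 (by simpa using congrArg Subtype.val ha)
    have hb' := h.mem_E b.2 (by simpa using congrArg Subtype.val hb)
    exact Subtype.ext (by simpa using congrArg Subtype.val (h.el.1.is_comm.comm ⟨(a : P), ha'⟩ ⟨(b : P), hb'⟩))
  have hfam : ∀ (s t : ℕ) (x y z : ↥(centralizer (E : Set P))), 4 ≤ n - 1 → ¬ 3 ∣ s →
      closure ({x, y, z} : Set _) = ⊤ → x ^ 3 = 1 → y ^ 3 = 1 → z ^ 3 ^ (n - 1 - 2) = 1 →
      y * z = z * y → x⁻¹ * y * x = y * z ^ (s * 3 ^ (n - 1 - 3)) → x⁻¹ * z * x = y ^ t * z → False := by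
    intro s t x y z hn hs hgen hx hy hz hyz h1 h2
    obtain ⟨k, hk⟩ : ∃ k, n - 1 = k + 4 := ⟨n - 5, by omega⟩
    rw [hk, show k + 4 - 2 = k + 2 by omega] at hz
    rw [hk, show k + 4 - 3 = k + 1 by omega] at h1
    have ho := orderOf_of_data (p := 3) (by rw [hcard, hk]) hgen hx hy hz hyz h1 h2
    have hxy : x⁻¹ * y * x = y := by rw [mul_assoc, (hcomm y x hy hx).eq, inv_mul_cancel_left]
    rw [hxy, eq_comm, mul_eq_left, ← orderOf_dvd_iff_pow_eq_one, ho,
      pow_succ' 3 (k + 1), Nat.mul_dvd_mul_iff_right (by positivity)] at h1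
    exact hs h1
  rcases RankTwoClass.classify (p := 3) (by norm_num) hcard (h.rank_subgroup _) with
    hm | ⟨hn3, x, y, z, hgen, hx, hy, hz, hxz, hyz, hconj⟩ |
      ⟨hn4, s, x, y, z, hs, hgen, hx, hy, hz, hyz, h1, h2⟩ | ⟨-, hn2, hlcs⟩
  · exact hm
  · exfalso
    rcases Nat.eq_or_lt_of_le hn3 with h4 | h4
    · have hxy : x⁻¹ * y * x = y := by rw [mul_assoc, (hcomm y x hy hx).eq, inv_mul_cancel_left]
      rw [← h4] at hz hconj
      simp only [Nat.reduceSub, pow_one, pow_zero] at hz hconj
      rw [hxy, eq_comm, mul_eq_left] at hconj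
      have hz1 : z ^ 3 ^ 0 = 1 := by simpa using hconj
      have hzmem : z ∈ closure ({x, y} : Set _) := by
        rw [hconj]; exact one_mem _
      have htop : closure ({x, y} : Set ↥(centralizer (E : Set P))) = ⊤ := by
        rw [eq_top_iff, ← hgen]
        refine (closure_le _).mpr ?_
        rintro g (rfl | rfl | rfl)
        · exact subset_closure (Set.mem_insert g _)
        · exact subset_closure (Set.mem_insert_of_mem _ (Set.mem_singleton g))
        · exact hzmem
      have hcl : (closure ({x, y} : Set ↥(centralizer (E : Set P)))).map (centralizer (E : Set P)).subtype ≤ E := by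
        rw [MonoidHom.map_closure, closure_le]
        rintro _ ⟨g, (rfl | rfl), rfl⟩
        · exact h.mem_E g.2 (by simpa using congrArg Subtype.val hx)
        · exact h.mem_E g.2 (by simpa using congrArg Subtype.val hy)
      rw [htop, ← MonoidHom.range_eq_map, range_subtype] at hcl
      have := card_le_of_le hcl
      rw [hcard, h.cardE, Nat.pow_le_pow_iff_right (by norm_num)] at this
      omega
    · exact hfam 1 0 x y z (by omega) (by norm_num) hgen hx hy hz hyz (by rw [one_mul]; exact hconj)
        (by rw [pow_zero, one_mul, mul_assoc, ← hxz, inv_mul_cancel_left])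
  · exfalso
    refine hfam s 1 x y z (by omega) ?_ hgen hx hy hz hyz h1 (by rw [pow_one]; exact h2)
    rcases hs with rfl | hs
    · norm_num
    · exact fun hd => hs ⟨0, by rw [(ZMod.natCast_eq_zero_iff s 3).mpr hd, mul_zero]⟩
  · exfalso
    have hc := Fusion.card_center_of_maxClass (IsPGroup.of_card hcard) hcard
      (by have := h.four; omega) hlcs
    have hle : E.subgroupOf (centralizer (E : Set P)) ≤ center _ := fun e he =>
      mem_center_iff.mpr fun g => Subtype.ext ((mem_centralizer_iff.mp g.2 e he).symm)
    have := card_le_of_le hle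
    rw [Nat.card_congr (subgroupOfEquivOfLe h.E_le).toEquiv, h.cardE, hc] at this
    norm_num at this

/-- For even `n`, a power map sends `C(E)` homomorphically onto the centre and kills the derived
subgroup. -/
theorem exists_power_hom (hev : Even n) :
    ∃ (η : ↥(centralizer (E : Set P)) →* P) (q : ℕ), (∀ u, η u = (u : P) ^ q) ∧ (∀ u, η u ∈ center P) ∧
      (∀ u, η u ^ 3 = 1) ∧ (∀ u : ↥(centralizer (E : Set P)), η u = 1 ↔ (u : P) ∈ commutator P) ∧ ∃ u, η u ≠ 1 := by
  classical
  set Γ := centralizer (E : Set P) with hΓ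
  have hP3 : IsPGroup 3 ↥Γ := h.isPGroup.to_subgroup Γ
  obtain ⟨a, b, H⟩ := PGroup.exists_metaGen h.isMetacyclic_centralizer
  have hexN : ∃ e, ∀ u : ↥Γ, u ^ 3 ^ e = 1 := ⟨n - 1, fun u => by
    rw [← h.card_centralizer]; exact pow_card_eq_one'⟩
  set e := Nat.find hexN with he
  have hexp : ∀ u : ↥Γ, u ^ 3 ^ e = 1 := Nat.find_spec hexN
  have he1 : 1 ≤ e := by
    by_contra h0
    have hsub : Subsingleton ↥Γ := ⟨fun u v => by
      have hu := hexp u
      have hv := hexp v
      rw [show e = 0 by omega, pow_zero, pow_one] at hu hv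
      rw [hu, hv]⟩
    have hle := Finite.card_le_one_iff_subsingleton.mpr hsub
    rw [h.card_centralizer] at hle
    exact absurd hle (not_le.mpr (Nat.one_lt_pow (by have := h.four; omega) (by norm_num)))
  have hpc : Cfsg.powerClosure 3 e (⊤ : Subgroup ↥Γ) = ⊥ := by
    refine le_bot_iff.mp ((closure_le _).mpr ?_)
    rintro _ ⟨x, -, rfl⟩
    rw [SetLike.mem_coe, mem_bot, hexp]
  have hmul : ∀ u v : ↥Γ, ((u * v : ↥Γ) : P) ^ 3 ^ (e - 1) = (u : P) ^ 3 ^ (e - 1) * (v : P) ^ 3 ^ (e - 1) := by
    intro u v
    obtain ⟨c, hc, hcc⟩ := (H.isRegular hP3 (by norm_num)).2 u v (e - 1)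
    have hc1 := commutator_powerClosure_le hP3 (by norm_num) H u v (e - 1) hc
    rw [Nat.sub_add_cancel he1, hpc, mem_bot] at hc1
    rw [hc1, mul_one] at hcc
    simpa using congrArg Subtype.val hcc
  let η : ↥Γ →* P := MonoidHom.mk' (fun u => (u : P) ^ 3 ^ (e - 1)) hmul
  have hη3 : ∀ u, η u ^ 3 = 1 := fun u => by
    show ((u : P) ^ 3 ^ (e - 1)) ^ 3 = 1
    rw [← pow_mul, ← pow_succ, Nat.sub_add_cancel he1]
    simpa using congrArg Subtype.val (hexp u)
  have hηE : ∀ u, η u ∈ E := fun u => h.mem_E (Subgroup.pow_mem _ u.2 _) (hη3 u)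
  obtain ⟨u₀, hu₀⟩ : ∃ u, η u ≠ 1 := by
    by_contra! hall
    refine Nat.find_min hexN (show e - 1 < e by omega) fun u => Subtype.ext ?_
    simpa [η] using hall u
  have hconj : ∀ (g : P) (u : ↥Γ), g * η u * g⁻¹ = η ⟨g * u * g⁻¹, h.normal_centralizer.conj_mem u u.2 g⟩ :=
    fun g u => (conj_pow).symm
  have hrn : η.range.Normal := ⟨fun w hw g => by
    obtain ⟨u, rfl⟩ := hw
    exact ⟨_, (hconj g u).symm⟩⟩
  have hrE : η.range ≤ E := by rintro _ ⟨u, rfl⟩; exact hηE u
  have hcen : η.range ≤ center P := by
    by_contra hnc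
    -- otherwise the range is `E` and `|C(E)| = 9^e`
    have hne : η.range ≠ ⊥ := fun hb => hu₀ (mem_bot.mp (hb ▸ ⟨u₀, rfl⟩))
    obtain ⟨z, hz, hzc, hz3⟩ := PGroup.exists_orderOf_eq_mem_center h.isPGroup η.range hne
    have hzle : center P ≤ η.range := by
      have : center P = zpowers z := by
        refine (eq_of_le_of_card_ge (zpowers_le.mpr hzc) ?_).symm
        rw [h.card_center, Nat.card_zpowers, hz3]
      rw [this, zpowers_le]
      exact hz
    have hrange : η.range = E := by
      refine eq_of_le_of_card_ge hrE ?_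
      have := PGroup.mul_card_le_card h.isPGroup (lt_of_le_not_ge hzle hnc)
      rw [h.card_center] at this
      rw [h.cardE]
      simpa [pow_two] using this
    have hEnc : ∀ w : P, ¬ E ≤ zpowers w := by
      intro w hw
      have hcyc : IsCyclic ↥E := isCyclic_of_injective (inclusion hw) (inclusion_injective hw)
      obtain ⟨g, hg⟩ := hcyc.exists_generator
      have h1 := orderOf_eq_card_of_forall_mem_zpowers hg
      have h2 : orderOf g ∣ 3 := orderOf_dvd_of_pow_eq_one (Subtype.ext (by simpa using h.el.2 _ g.2))
      rw [h1, h.cardE] at h2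
      norm_num at h2
    set A := zpowers a with hA
    have hAn : A.Normal := H.normal
    have hao : orderOf a ∣ 3 ^ e := orderOf_dvd_of_pow_eq_one (hexp a)
    obtain ⟨ja, hja, hjao⟩ := (Nat.dvd_prime_pow Nat.prime_three).mp hao
    have hq : orderOf (QuotientGroup.mk' A b) ∣ 3 ^ e := orderOf_dvd_of_pow_eq_one (by
      rw [← map_pow, hexp, map_one])
    obtain ⟨jb, hjb, hjbo⟩ := (Nat.dvd_prime_pow Nat.prime_three).mp hq
    have hgenb : zpowers (QuotientGroup.mk' A b) = ⊤ := by
      rw [eq_top_iff]
      rintro q -
      obtain ⟨g, rfl⟩ := QuotientGroup.mk'_surjective A q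
      obtain ⟨i, j, rfl⟩ := H.gen g
      refine mem_zpowers_iff.mpr ⟨j, ?_⟩
      rw [map_mul, map_zpow _ a, map_zpow]
      have ha1 : QuotientGroup.mk' A a = 1 := (QuotientGroup.eq_one_iff a).mpr (mem_zpowers a)
      rw [ha1, one_zpow, one_mul]
    have hcardeq : Nat.card ↥Γ = 3 ^ (ja + jb) := by
      rw [← A.card_mul_index, Subgroup.index_eq_card, ← Subgroup.card_top (G := ↥Γ ⧸ A), ← hgenb,
        Nat.card_zpowers, Nat.card_zpowers, hjao, hjbo, pow_add]
    have hje : jb = e := by
      by_contra hne'
      refine hEnc (a : P) (hrange.symm.le.trans ?_)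
      rintro _ ⟨u, rfl⟩
      have hu : QuotientGroup.mk' A u ^ 3 ^ jb = 1 := by
        obtain ⟨j, hj⟩ := mem_zpowers_iff.mp (hgenb ▸ mem_top (QuotientGroup.mk' A u))
        rw [← hj, ← zpow_natCast, ← zpow_mul, mul_comm, zpow_mul, zpow_natCast, ← hjbo,
          pow_orderOf_eq_one, one_zpow]
      rw [← map_pow] at hu
      obtain ⟨i, hi⟩ := mem_zpowers_iff.mp ((QuotientGroup.eq_one_iff _).mp hu)
      refine mem_zpowers_iff.mpr ⟨i * ((3 ^ (e - 1 - jb) : ℕ) : ℤ), ?_⟩
      show (a : P) ^ (i * ((3 ^ (e - 1 - jb) : ℕ) : ℤ)) = (u : P) ^ 3 ^ (e - 1)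
      have hi' : (a : P) ^ i = (u : P) ^ 3 ^ jb := by simpa using congrArg Subtype.val hi
      rw [zpow_mul, hi', zpow_natCast, ← pow_mul, ← pow_add, show jb + (e - 1 - jb) = e - 1 by omega]
    have hae : ja = e := by
      by_contra hne'
      refine hEnc ((η b : P)) (hrange.symm.le.trans ?_)
      rintro _ ⟨u, rfl⟩
      obtain ⟨i, j, rfl⟩ := H.gen u
      refine mem_zpowers_iff.mpr ⟨j, ?_⟩
      have ha1 : η a = 1 := by
        have : a ^ 3 ^ (e - 1) = 1 := by
          rw [← orderOf_dvd_iff_pow_eq_one, hjao]
          exact pow_dvd_pow 3 (by omega)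
        simpa [η] using congrArg Subtype.val this
      rw [map_mul, map_zpow, map_zpow, ha1, one_zpow, one_mul]
    rw [h.card_centralizer, hje, hae] at hcardeq
    have hee := Nat.pow_right_injective (le_refl 2 |>.trans (by norm_num)) hcardeq
    obtain ⟨m, hm⟩ := hev
    have := h.four
    omega
  refine ⟨η, _, fun u => rfl, fun u => hcen ⟨u, rfl⟩, hη3, fun u => ?_, u₀, hu₀⟩
  -- the kernel is the derived subgroup
  set K := η.ker.map Γ.subtype with hK
  have hKn : K.Normal := ⟨by
    rintro _ ⟨v, hv, rfl⟩ g
    refine ⟨⟨g * v * g⁻¹, h.normal_centralizer.conj_mem v v.2 g⟩, ?_, rfl⟩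
    rw [SetLike.mem_coe, MonoidHom.mem_ker] at hv
    rw [SetLike.mem_coe, MonoidHom.mem_ker, ← hconj, hv, mul_one, mul_inv_cancel]⟩
  have hKi : η.ker.index = 3 := by
    rw [Subgroup.index_ker]
    refine le_antisymm ((card_le_of_le hcen).trans h.card_center.le) ?_
    have h1 : orderOf (η u₀) ∣ Nat.card η.range := Subgroup.orderOf_dvd_natCard _ ⟨u₀, rfl⟩
    rw [orderOf_eq_prime (hη3 u₀) hu₀] at h1
    exact Nat.le_of_dvd Nat.card_pos h1
  have hKidx : K.index = 3 ^ 2 := by
    rw [hK, Subgroup.index_map_subtype, hKi, hΓ, h.index_centralizer]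
    norm_num
  have hKeq := PGroup.normal_eq_lcs_of_maximal (by have := h.four; omega) h.card h.cls K (le_refl 2) hKidx
  rw [Subgroup.top_lowerCentralSeries_one] at hKeq
  refine ⟨fun hu => hKeq ▸ (⟨u, hu, rfl⟩ : (u : P) ∈ K), fun hu => ?_⟩
  obtain ⟨v, hv, hvu⟩ := (hKeq.symm ▸ hu : (u : P) ∈ K)
  rw [← (Subtype.ext hvu : v = u)]
  exact hv

/-- Elements of order 3 outside `C(E)` have centralizer of order at most 9. -/
theorem card_centralizer_le {x : P} (hx3 : x ^ 3 = 1) (hx : x ∉ centralizer (E : Set P)) :
    Nat.card (centralizer ({x} : Set P)) ≤ 3 ^ 2 := by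
  classical
  set Γ := centralizer (E : Set P) with hΓ
  have hΓn : Γ.Normal := h.normal_centralizer
  have hCZ : ∀ e ∈ E, Commute e x → e ∈ center P := by
    intro e he hc
    by_contra hec
    refine hx ?_
    rw [hΓ, ← h.centralizer_eq he hec, mem_centralizer_singleton_iff]
    exact hc.eq.symm
  have hkey : ∀ m (u : P), u ^ 3 ^ m = 1 → u ∈ Γ → Commute u x → u ∈ center P := by
    intro m
    induction m with
    | zero =>
      intro u hu _ _
      rw [pow_zero, pow_one] at hu
      rw [hu]
      exact one_mem _
    | succ m ih =>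
      intro u hu huΓ hux
      have hu3 : u ^ 3 ∈ center P :=
        ih (u ^ 3) (by rw [← pow_mul, ← pow_succ', hu]) (Subgroup.pow_mem _ huΓ _) (hux.pow_left 3)
      by_contra huz
      have hzΓ : center P ≤ Γ := h.center_le.trans h.E_le
      set Z := center P with hZ
      let π := QuotientGroup.mk' Z
      -- elements of `Γ` with cube in the centre
      have hmeta : Cfsg.IsMetacyclic ↥(Γ.map π) :=
        isMetacyclic_of_surjective _ (π.subgroupMap_surjective Γ) h.isMetacyclic_centralizer
      obtain ⟨C, hCn, hCc, hCq⟩ := hmeta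
      have hP' : IsPGroup 3 ↥(Γ.map π) := (h.isPGroup.to_quotient Z).to_subgroup _
      have hcom := fun (v w : ↥(Γ.map π)) (hv : v ^ 3 = 1) (hw : w ^ 3 = 1) =>
        Fusion.commute_of_pow_eq_one hP' (by norm_num) (C := C) hv hw
      let Ω : Subgroup ↥(Γ.map π) :=
        { carrier := {v | v ^ 3 = 1}
          one_mem' := one_pow 3
          mul_mem' := fun {v w} hv hw => by
            show (v * w) ^ 3 = 1
            rw [(show Commute v w from hcom v w hv hw).mul_pow, show v ^ 3 = 1 from hv,
              show w ^ 3 = 1 from hw, one_mul]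
          inv_mem' := fun {v} hv => by
            show v⁻¹ ^ 3 = 1
            rw [inv_pow, show v ^ 3 = 1 from hv, inv_one] }
      have hΩ : Nat.card Ω ≤ 3 ^ 2 := Fusion.card_le_sq_of_exponent Ω (fun v hv => hv) (C := C)
      set Q := (Ω.map (Γ.map π).subtype).comap π with hQdef
      have hQmem : ∀ v, v ∈ Q ↔ v ∈ Γ ∧ v ^ 3 ∈ Z := by
        intro v
        constructor
        · rintro ⟨⟨w, g, hg, hgw⟩, hw, hwv⟩
          simp only [Subgroup.coe_subtype] at hwv
          subst hwv
          have hvg : g⁻¹ * v ∈ Z := QuotientGroup.eq.mp hgw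
          refine ⟨?_, ?_⟩
          · have := mul_mem hg (hzΓ hvg)
            rwa [mul_inv_cancel_left] at this
          · rw [← QuotientGroup.eq_one_iff, QuotientGroup.mk_pow]
            exact congrArg Subtype.val hw
        · rintro ⟨hv, hv3⟩
          refine ⟨⟨π v, mem_map_of_mem π hv⟩, Subtype.ext ?_, rfl⟩
          show π v ^ 3 = 1
          rw [← map_pow]
          exact (QuotientGroup.eq_one_iff _).mpr hv3
      have huQ : u ∈ Q := (hQmem u).mpr ⟨huΓ, hu3⟩
      have hEQ : E ≤ Q := fun e he => (hQmem e).mpr ⟨h.E_le he, by rw [h.el.2 e he]; exact one_mem _⟩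
      have huE : u ∉ E := fun huE => huz (hCZ u huE hux)
      have hQn : Q.Normal := ⟨fun v hv g => by
        rw [hQmem] at hv ⊢
        refine ⟨hΓn.conj_mem v hv.1 g, ?_⟩
        rw [conj_pow, mem_center_iff.mp hv.2 g, mul_inv_cancel_right]
        exact hv.2⟩
      -- `Q` commutes with everything modulo the centre
      have hQc : Q ≤ Subgroup.upperCentralSeries P 2 := by
        intro q hq
        rw [Subgroup.mem_upperCentralSeries_succ_iff]
        intro g
        rw [Subgroup.upperCentralSeries_one]
        have hπ : ∀ g, π g * π q = π q * π g := by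
          have hQeq : E ⊔ zpowers u = Q := by
            have hlt : E < E ⊔ zpowers u := lt_of_le_of_ne le_sup_left fun he =>
              huE (he ▸ mem_sup_right (mem_zpowers u))
            refine eq_of_le_of_card_ge (sup_le hEQ (zpowers_le.mpr huQ)) ?_
            have h1 := PGroup.mul_card_le_card h.isPGroup hlt
            rw [h.cardE] at h1
            have h2 : Nat.card Q ≤ 3 * 3 ^ 2 := by
              rw [hQdef, RankTwoClass.card_comap_mk' h.card_center, Subgroup.card_map_of_injective (Γ.map π).subtype_injective, mul_comm 3]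
              exact Nat.mul_le_mul_right _ hΩ
            exact h2.trans h1
          have hgens : ∀ g, g ∈ Γ ∨ g = x → π g * π q = π q * π g := by
            intro g hg
            have hle : Q ≤ (centralizer ({π g} : Set (P ⧸ Z))).comap π := by
              rcases hg with hg | rfl
              · -- commutators are small
                intro w hw
                rw [hQmem] at hw
                rw [mem_comap, mem_centralizer_singleton_iff, ← map_mul, ← map_mul]
                refine QuotientGroup.eq.mpr ?_
                set d : ↥Γ := (⟨w, hw.1⟩ * ⟨g, hg⟩)⁻¹ * (⟨g, hg⟩ * ⟨w, hw.1⟩) with hd_def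
                have hdc : d ∈ commutator ↥Γ := by
                  have : d = ⁅(⟨g, hg⟩ : ↥Γ)⁻¹, (⟨w, hw.1⟩ : ↥Γ)⁻¹⁆ := by
                    rw [hd_def, commutatorElement_def]; group
                  rw [this]
                  exact commutator_mem_commutator (mem_top _) (mem_top _)
                have hd3 : (d : P) ^ 3 ∈ Z := by
                  rw [← QuotientGroup.eq_one_iff, QuotientGroup.mk_pow]
                  have hw' : (π w) ^ 3 = 1 := by
                    rw [← map_pow]; exact (QuotientGroup.eq_one_iff _).mpr hw.2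
                  have hgw : (π g * π w * (π g)⁻¹) ^ 3 = 1 := by
                    rw [conj_pow, hw', mul_one, mul_inv_cancel]
                  have hc : Commute (π g * π w * (π g)⁻¹) (π w) := by
                    have := hcom ⟨π g * π w * (π g)⁻¹, mul_mem (mul_mem (mem_map_of_mem π hg)
                      (mem_map_of_mem π hw.1)) (inv_mem (mem_map_of_mem π hg))⟩ ⟨π w, mem_map_of_mem π hw.1⟩
                      (Subtype.ext hgw) (Subtype.ext hw')
                    exact congrArg Subtype.val this
                  have hval : (QuotientGroup.mk (d : P) : P ⧸ Z) =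
                      (π g)⁻¹ * ((π w)⁻¹ * (π g * π w * (π g)⁻¹)) * π g := by
                    show π ((w * g)⁻¹ * (g * w)) = _
                    simp only [map_mul, map_inv]
                    group
                  rw [hval]
                  have : ((π g)⁻¹ * ((π w)⁻¹ * (π g * π w * (π g)⁻¹)) * π g) =
                      (π g)⁻¹ * ((π w)⁻¹ * (π g * π w * (π g)⁻¹)) * (π g)⁻¹⁻¹ := by rw [inv_inv]
                  rw [this, conj_pow, (hc.symm.inv_left).mul_pow, inv_pow, hw', hgw, inv_one, one_mul,
                    mul_one, mul_inv_cancel]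
                -- cyclic normal subgroups are central
                obtain ⟨a, b, H⟩ := PGroup.exists_metaGen h.isMetacyclic_centralizer
                have hcyc : IsCyclic ↥(commutator ↥Γ) := H.isCyclic_commutator
                set D := (commutator ↥Γ).map Γ.subtype with hDdef
                have hDn : D.Normal := by
                  rw [hDdef, map_subtype_commutator]
                  exact Subgroup.commutator_normal Γ Γ
                have hDc : IsCyclic ↥D :=
                  (MulEquiv.isCyclic (equivMapOfInjective _ _ Γ.subtype_injective)).mp hcyc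
                have hdD : (d : P) ∈ D := ⟨d, hdc, rfl⟩
                have hdPn : (zpowers (d : P)).Normal :=
                  PGroup.normal_of_le_isCyclic hDn hDc (H := zpowers (d : P)) (zpowers_le.mpr hdD)
                have hd9 : (d : P) ^ 3 = 1 := by
                  by_contra hne
                  have ho : orderOf (d : P) = 3 ^ 2 := by
                    refine orderOf_eq_prime_pow (n := 1) (by rwa [pow_one]) ?_
                    rw [pow_succ, pow_one, pow_mul]
                    have := congrArg Subtype.val (pow_card_eq_one' (x := (⟨_, hd3⟩ : center P)))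
                    rw [h.card_center] at this
                    simpa using this
                  have hcardd : Nat.card (zpowers (d : P)) = 3 ^ 2 := by rw [Nat.card_zpowers, ho]
                  have hidx : ∀ K : Subgroup P, Nat.card K = 3 ^ 2 → K.index = 3 ^ (n - 2) := by
                    intro K hK
                    have := K.card_mul_index
                    rw [hK, h.card, show (3 : ℕ) ^ n = 3 ^ 2 * 3 ^ (n - 2) by
                      rw [← pow_add]; congr 1; have := h.four; omega] at this
                    exact Nat.eq_of_mul_eq_mul_left (by norm_num) this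
                  have h4 := h.four
                  have e1 := PGroup.normal_eq_lcs_of_maximal (by omega) h.card h.cls (zpowers (d : P))
                    (show 2 ≤ n - 2 by omega) (hidx _ hcardd)
                  have := h.normal
                  have e2 := PGroup.normal_eq_lcs_of_maximal (by omega) h.card h.cls E
                    (show 2 ≤ n - 2 by omega) (hidx _ h.cardE)
                  have : (d : P) ∈ E := by rw [e2, ← e1]; exact mem_zpowers _
                  exact hne (h.el.2 _ this)
                have hdZ : (d : P) ∈ Z := by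
                  by_cases hd1 : (d : P) = 1
                  · rw [hd1]; exact one_mem _
                  exact PGroup.le_center_of_card_eq h.isPGroup (zpowers (d : P))
                    (by rw [Nat.card_zpowers, orderOf_eq_prime hd9 hd1]) (mem_zpowers _)
                simpa [hd_def] using hdZ
              · rw [← hQeq, sup_le_iff, zpowers_le, mem_comap, mem_centralizer_singleton_iff]
                refine ⟨fun e he => ?_, by rw [← map_mul, ← map_mul, hux.eq]⟩
                rw [mem_comap, mem_centralizer_singleton_iff]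
                have := h.normal
                have := (RankTwoClass.commutator_mem_center h.isPGroup h.cardE he g).2
                have h1 : π (g * e * g⁻¹ * e⁻¹) = 1 := (QuotientGroup.eq_one_iff _).mpr this
                rw [map_mul, map_mul, map_mul, map_inv, map_inv, mul_inv_eq_one, mul_inv_eq_iff_eq_mul] at h1
                exact h1.symm
            exact (mem_centralizer_singleton_iff.mp (hle hq)).symm
          have htop : Γ ⊔ zpowers x = ⊤ := by
            have hlt : Γ < Γ ⊔ zpowers x := lt_of_le_of_ne le_sup_left fun he =>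
              hx (he ▸ mem_sup_right (mem_zpowers x))
            have hmax : IsCoatom Γ := by
              refine ⟨fun he => hx (he ▸ mem_top x), fun K hK => ?_⟩
              by_contra hK1
              have h1 := PGroup.mul_card_le_card h.isPGroup hK
              have h2 := PGroup.mul_card_le_card h.isPGroup (lt_top_iff_ne_top.mpr hK1)
              rw [Subgroup.card_top] at h2
              have h3 := Γ.card_mul_index
              rw [hΓ, h.index_centralizer, ← hΓ] at h3
              nlinarith [Nat.card_pos (α := ↥Γ)]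
            exact hmax.2 _ hlt
          have hall : ⊤ ≤ (centralizer ({π q} : Set (P ⧸ Z))).comap π := by
            rw [← htop, sup_le_iff, zpowers_le, mem_comap, mem_centralizer_singleton_iff]
            exact ⟨fun g hg => by
              rw [mem_comap, mem_centralizer_singleton_iff]; exact hgens g (Or.inl hg),
              hgens x (Or.inr rfl)⟩
          exact fun g => mem_centralizer_singleton_iff.mp (hall (mem_top g))
        rw [← QuotientGroup.eq_one_iff]
        show π ⁅q, g⁆ = 1
        rw [map_commutatorElement, commutatorElement_eq_one_iff_mul_comm]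
        exact (hπ g).symm
      have hcardQ : 3 * 3 ^ 2 ≤ Nat.card Q := by
        have hlt : E < Q := lt_of_le_of_ne hEQ fun he => huE (he ▸ huQ)
        simpa [h.cardE] using PGroup.mul_card_le_card h.isPGroup hlt
      have hU := card_le_of_le hQc
      rw [Fusion.card_upperCentralSeries h.isPGroup h.card (by have := h.four; omega)
        (PGroup.lcs_ne_bot_of_maximal (by have := h.four; omega) h.card h.cls)
        (by have := h.four; omega)] at hU
      omega
  set C := centralizer ({x} : Set P) with hC
  have hsub : (Γ.subgroupOf C).map C.subtype ≤ center P := by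
    rintro _ ⟨⟨u, huC⟩, huΓ, rfl⟩
    exact hkey n u (by rw [← h.card]; exact pow_card_eq_one') huΓ (mem_centralizer_singleton_iff.mp huC)
  have h1 : Nat.card (Γ.subgroupOf C) ≤ 3 := by
    rw [← Subgroup.card_map_of_injective C.subtype_injective]
    exact (card_le_of_le hsub).trans h.card_center.le
  have h2 : (Γ.subgroupOf C).index ≤ 3 := by
    rw [← h.index_centralizer]
    exact Nat.le_of_dvd (Nat.pos_of_ne_zero Subgroup.index_ne_zero_of_finite) (Subgroup.relIndex_dvd_index_of_normal Γ C)
  rw [← (Γ.subgroupOf C).card_mul_index, pow_two]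
  exact Nat.mul_le_mul h1 h2

end Frame

end Cfsg.Agent.IsolatedRankTwo
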