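import Cfsg.Agent.Lib.IsolatedRankTwo.CentralFix
import Cfsg.Agent.S0112

/-!
# Essential subgroups in a 3-group of maximal class of rank two with a fixed central element

* `Frame.commutator_le`, `Frame.map_mem_centralizer`: facts about `C(E)`.
* `Fixed.essential_shape`: an essential subgroup has order 27 and exponent 3.
* `Fixed.exists_inversion`: it has an automorphism inverting it modulo its centre.
-/

set_option autoImplicit false
set_option linter.unusedSectionVars false
set_option linter.deprecated false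

namespace Cfsg.Agent.IsolatedRankTwo

open Subgroup Cfsg Cfsg.FusionSystem Cfsg.Agent.Fusion
open scoped commutatorElement

universe u

local instance : Fact (Nat.Prime 3) := ⟨Nat.prime_three⟩

namespace Frame

variable {P : Type u} [Group P] [Finite P] {E : Subgroup P} {n : ℕ} (h : Frame E n)

include h

theorem commutator_le : commutator P ≤ centralizer (E : Set P) := by
  have := h.normal_centralizer
  have hq : Nat.card (P ⧸ centralizer (E : Set P)) = 3 := by
    rw [← Subgroup.index_eq_card]; exact h.index_centralizer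
  have hcy : IsCyclic (P ⧸ centralizer (E : Set P)) := isCyclic_of_prime_card hq
  refine Subgroup.commutator_le.mpr fun a _ b _ => ?_
  rw [← QuotientGroup.eq_one_iff]
  show QuotientGroup.mk' _ ⁅a, b⁆ = 1
  rw [map_commutatorElement, commutatorElement_eq_one_iff_mul_comm]
  exact hcy.isMulCommutative.is_comm.comm _ _

theorem center_le_commutator : center P ≤ commutator P := by
  have hne : commutator P ≠ ⊥ := by
    intro hb
    have h2 : (⊤ : Subgroup P).lowerCentralSeries (n - 2) ≠ ⊥ :=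
      PGroup.lcs_ne_bot_of_maximal (by have := h.four; omega) h.card h.cls
    refine h2 (le_bot_iff.mp ?_)
    rw [← hb, ← Subgroup.top_lowerCentralSeries_one]
    exact Subgroup.lowerCentralSeries_antitone _ (by have := h.four; omega)
  obtain ⟨e, he, hec, he3⟩ := PGroup.exists_orderOf_eq_mem_center h.isPGroup (commutator P) hne
  have : center P = zpowers e := by
    refine (eq_of_le_of_card_ge (zpowers_le.mpr hec) ?_).symm
    rw [h.card_center, Nat.card_zpowers, he3]
  rw [this, zpowers_le]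
  exact he

theorem map_mem_centralizer (α : MulAut P) {u : P} (hu : u ∈ centralizer (E : Set P)) :
    α u ∈ centralizer (E : Set P) := by
  have := h.normal
  have hU : E = Subgroup.upperCentralSeries P 2 := by
    refine eq_of_le_of_card_ge (fun e he => ?_) ?_
    · rw [Subgroup.mem_upperCentralSeries_succ_iff]
      intro g
      rw [Subgroup.upperCentralSeries_one]
      have hc := (RankTwoClass.commutator_mem_center h.isPGroup h.cardE he g).2
      have e1 : ⁅e, g⁆ = (g * e * g⁻¹ * e⁻¹)⁻¹ := by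
        rw [commutatorElement_def]; group
      rw [e1]
      exact inv_mem hc
    · rw [Fusion.card_upperCentralSeries h.isPGroup h.card (by have := h.four; omega)
        (PGroup.lcs_ne_bot_of_maximal (by have := h.four; omega) h.card h.cls)
        (by have := h.four; omega), h.cardE]
  rw [mem_centralizer_iff] at hu ⊢
  intro e he
  have hmem : α⁻¹ e ∈ E := by
    rw [hU]
    have hc : (Subgroup.upperCentralSeries P 2).Characteristic := inferInstance
    have h1 := characteristic_iff_map_le.mp hc α⁻¹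
    exact h1 (mem_map_of_mem _ (hU ▸ he))
  have h1 := congrArg α (hu _ hmem)
  simpa using h1

end Frame

variable {L : Type u} [Group L] [Finite L] {S : Sylow 3 L} {y : L}
  {E : Subgroup ↥(S : Subgroup L)} {n : ℕ}

/-- In rank at most two over a frame: an element of order 3 outside `C(E)` forces maximal class. -/
theorem maxclass_of_mem (h : Fixed S y) (hE : Frame E n) {R : Subgroup L} (hR : R ≤ (S : Subgroup L))
    (hy : y ∈ R) {x : ↥R} (hx3 : x ^ 3 = 1) (hx : inclusion hR x ∉ centralizer (E : Set ↥(S : Subgroup L)))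
    {m : ℕ} (hm : Nat.card R = 3 ^ m) :
    Nat.card (centralizer ({x} : Set ↥R)) = 3 ^ 2 ∧ Group.nilpotencyClass ↥R = m - 1 := by
  have hxS : (inclusion hR x) ^ 3 = 1 := by rw [← map_pow, hx3, map_one]
  have hle : Nat.card (centralizer ({x} : Set ↥R)) ≤ 3 ^ 2 := by
    refine le_trans ?_ (hE.card_centralizer_le hxS hx)
    refine Nat.card_le_card_of_injective (fun c => ⟨inclusion hR c.1, ?_⟩) fun a b hab => ?_
    · rw [mem_centralizer_singleton_iff, ← map_mul, ← map_mul, mem_centralizer_singleton_iff.mp c.2]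
    · exact Subtype.ext (inclusion_injective hR (congrArg Subtype.val hab))
  have hne : zpowers x < zpowers x ⊔ zpowers (⟨y, hy⟩ : ↥R) := by
    refine lt_of_le_of_ne le_sup_left fun he => ?_
    have hyx : (⟨y, hy⟩ : ↥R) ∈ zpowers x := he ▸ mem_sup_right (mem_zpowers _)
    obtain ⟨i, hi⟩ := mem_zpowers_iff.mp hyx
    have hx1 : x ≠ 1 := fun h1 => h.ne_one (by
      rw [h1, one_zpow] at hi
      exact (congrArg Subtype.val hi).symm)
    have hox : orderOf x = 3 := orderOf_eq_prime hx3 hx1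
    have hoy : orderOf (⟨y, hy⟩ : ↥R) = 3 := by rw [Subgroup.orderOf_mk]; exact h.ord
    have hz : x ∈ zpowers (⟨y, hy⟩ : ↥R) := by
      have := eq_of_le_of_card_ge (zpowers_le.mpr hyx) (by rw [Nat.card_zpowers, Nat.card_zpowers, hox, hoy])
      exact this ▸ mem_zpowers x
    obtain ⟨j, hj⟩ := mem_zpowers_iff.mp hz
    refine hx ?_
    rw [← hj, map_zpow]
    exact zpow_mem (mem_centralizer_iff.mpr fun e _ => mem_center_iff.mp h.mem_center e) _
  have hsub : zpowers x ⊔ zpowers (⟨y, hy⟩ : ↥R) ≤ centralizer ({x} : Set ↥R) := by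
    rw [sup_le_iff, zpowers_le, zpowers_le, mem_centralizer_singleton_iff, mem_centralizer_singleton_iff]
    exact ⟨rfl, Subtype.ext (mem_centralizer_singleton_iff.mp (h.central (hR x.2))).symm⟩
  have hge : 3 ^ 2 ≤ Nat.card (centralizer ({x} : Set ↥R)) := by
    have h1 := PGroup.mul_card_le_card (S.2.to_le hR) hne
    by_cases hx1 : x = 1
    · exfalso
      exact hx (by rw [hx1, map_one]; exact one_mem _)
    rw [Nat.card_zpowers, orderOf_eq_prime hx3 hx1] at h1
    rw [pow_two]
    exact h1.trans (Subgroup.card_le_of_le hsub)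
  have hc : Nat.card (centralizer ({x} : Set ↥R)) = 3 ^ 2 := le_antisymm hle hge
  refine ⟨hc, S0112.result m hm _ hc ?_⟩
  refine le_antisymm ?_ ?_
  · exact centralizer_le (Set.singleton_subset_iff.mpr (mem_centralizer_singleton_iff.mpr rfl))
  · have hcom := IsPGroup.commutative_of_card_eq_prime_sq (p := 3) hc
    intro a ha
    exact mem_centralizer_iff.mpr fun b hb => congrArg Subtype.val (hcom ⟨b, hb⟩ ⟨a, ha⟩)

theorem false_of_frame {R : Subgroup L} (hR : (groupFusionSystem (S : Subgroup L)).IsEssential 3 R)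
    {E' : Subgroup ↥R} {m : ℕ} (hE' : Frame E' m) : False := by
  obtain ⟨f, h0, hm, hmono, hcard, hinv⟩ := frame_chain hE'
  exact SmallEss.false_of_chain S.2 hR f m h0 hm hmono hcard fun i hi α _ => hinv i hi α

/-- Essential subgroups have order 27 and exponent 3. -/
theorem essential_shape (h : Fixed S y) (hE : Frame E n) {R : Subgroup L}
    (hR : (groupFusionSystem (S : Subgroup L)).IsEssential 3 R) :
    Nat.card R = 3 ^ 3 ∧ ∀ a : ↥R, a ^ 3 = 1 := by
  have hRS : R ≤ (S : Subgroup L) := hR.1.1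
  have hy := h.mem_of_centric hR.1
  obtain ⟨m, hm⟩ := IsPGroup.iff_card.mp (S.2.to_le hRS)
  by_cases hm3 : m ≤ 3
  · rcases small_cases hm hm3 with hc | ⟨rfl, hexp⟩
    · exact (h.false_of_metacyclic hR hc).elim
    · exact ⟨hm, hexp⟩
  exfalso
  have hrk : Cfsg.PRankLE 3 2 ↥R := by
    intro A hA hA3
    have := h.rank (A.map (inclusion hRS)) (by
      have := hA
      infer_instance) (by
      rintro _ ⟨a, ha, rfl⟩
      rw [← map_pow, hA3 a ha, map_one])
    rwa [Subgroup.card_map_of_injective (inclusion_injective hRS)] at this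
  have hframe : (⊤ : Subgroup ↥R).lowerCentralSeries (m - 2) ≠ ⊥ → False := fun hl => by
    obtain ⟨E', hE'⟩ := exists_frame (by omega) hm hl hrk
    exact false_of_frame hR hE'
  by_cases hout : ∃ x : ↥R, x ^ 3 = 1 ∧ inclusion hRS x ∉ centralizer (E : Set ↥(S : Subgroup L))
  · obtain ⟨x, hx3, hx⟩ := hout
    exact hframe (PGroup.lcs_ne_bot_of_maximal (by omega) hm (maxclass_of_mem h hE hRS hy hx3 hx hm).2)
  push Not at hout
  have hcomm : ∀ a b : ↥R, a ^ 3 = 1 → b ^ 3 = 1 → Commute a b := by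
    intro a b ha hb
    have ha' := hE.mem_E (hout a ha) (by rw [← map_pow, ha, map_one])
    have hb' := hE.mem_E (hout b hb) (by rw [← map_pow, hb, map_one])
    refine inclusion_injective hRS ?_
    rw [map_mul, map_mul]
    exact congrArg Subtype.val (hE.el.1.is_comm.comm ⟨_, ha'⟩ ⟨_, hb'⟩)
  rcases RankTwoClass.classify (p := 3) (by norm_num) hm hrk with
    hmc | ⟨-, a, b, c, hgen, ha, hb, hc, hac, hbc, hconj⟩ |
      ⟨-, s, a, b, c, hs, hgen, ha, hb, hc, hbc, h1, h2⟩ | ⟨-, -, hlcs⟩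
  · exact h.false_of_metacyclic hR hmc
  · exact family_commute_false hm (by omega) hcomm (s := 1) (t := 0) (by norm_num) hgen ha hb hc hbc
      (by rw [one_mul]; exact hconj) (by rw [pow_zero, one_mul, mul_assoc, ← hac, inv_mul_cancel_left])
  · refine family_commute_false hm (by omega) hcomm ?_ hgen ha hb hc hbc h1 (t := 1) (by rw [pow_one]; exact h2)
    rcases hs with rfl | hs
    · norm_num
    · exact fun hd => hs ⟨0, by rw [(ZMod.natCast_eq_zero_iff s 3).mpr hd, mul_zero]⟩
  · exact hframe hlcs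

/-- Facts about a subgroup of order 27 and exponent 3 containing `y`. -/
structure PearlAt (S : Sylow 3 L) (y : L) (E : Subgroup ↥(S : Subgroup L)) (R : Subgroup L) : Prop where
  le : R ≤ (S : Subgroup L)
  mem : y ∈ R
  card : Nat.card R = 3 ^ 3
  exp : ∀ a : ↥R, a ^ 3 = 1

namespace PearlAt

variable {R : Subgroup L} (hP : PearlAt S y E R) (h : Fixed S y) (hE : Frame E n)

include hP h hE

theorem exists_outside : ∃ x : ↥R, inclusion hP.le x ∉ centralizer (E : Set ↥(S : Subgroup L)) := by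
  by_contra! hall
  have hle : (⊤ : Subgroup ↥R).map (inclusion hP.le) ≤ E := by
    rintro _ ⟨a, -, rfl⟩
    exact hE.mem_E (hall a) (by rw [← map_pow, hP.exp a, map_one])
  have h1 := Subgroup.card_le_of_le hle
  rw [Subgroup.card_map_of_injective (inclusion_injective hP.le), Subgroup.card_top, hP.card, hE.cardE]
    at h1
  norm_num at h1

theorem center_eq : center ↥R = zpowers (⟨y, hP.mem⟩ : ↥R) ∧ Nat.card (center ↥R) = 3 := by
  obtain ⟨x, hx⟩ := hP.exists_outside h hE
  have hc := (maxclass_of_mem h hE hP.le hP.mem (hP.exp x) hx hP.card).1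
  have hyc : (⟨y, hP.mem⟩ : ↥R) ∈ center ↥R := mem_center_iff.mpr fun a =>
    Subtype.ext (mem_centralizer_singleton_iff.mp (h.central (hP.le a.2)))
  have hlt : center ↥R < centralizer ({x} : Set ↥R) := by
    refine lt_of_le_of_ne (fun a ha => mem_centralizer_singleton_iff.mpr
      (mem_center_iff.mp ha x).symm) fun he => ?_
    have hxc : x ∈ center ↥R := he ▸ mem_centralizer_singleton_iff.mpr rfl
    have htop : centralizer ({x} : Set ↥R) = ⊤ := eq_top_iff.mpr fun a _ =>
      mem_centralizer_singleton_iff.mpr (mem_center_iff.mp hxc a)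
    rw [htop, Subgroup.card_top, hP.card] at hc
    norm_num at hc
  have h1 := PGroup.mul_card_le_card (S.2.to_le hP.le) hlt
  rw [hc] at h1
  have hy3 : Nat.card (zpowers (⟨y, hP.mem⟩ : ↥R)) = 3 := by
    rw [Nat.card_zpowers, Subgroup.orderOf_mk]; exact h.ord
  have heq : center ↥R = zpowers (⟨y, hP.mem⟩ : ↥R) :=
    (eq_of_le_of_card_ge (zpowers_le.mpr hyc) (by rw [hy3]; omega)).symm
  exact ⟨heq, heq ▸ hy3⟩

theorem index_center : (center ↥R).index = 3 ^ 2 := by
  have := (center ↥R).card_mul_index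
  rw [(hP.center_eq h hE).2, hP.card] at this
  omega

theorem commutator_le_center : commutator ↥R ≤ center ↥R := by
  have hq : Nat.card (↥R ⧸ center ↥R) = 3 ^ 2 := by
    rw [← Subgroup.index_eq_card]; exact hP.index_center h hE
  have hcom := IsPGroup.commutative_of_card_eq_prime_sq (p := 3) hq
  refine Subgroup.commutator_le.mpr fun a _ b _ => ?_
  rw [← QuotientGroup.eq_one_iff]
  show QuotientGroup.mk' _ ⁅a, b⁆ = 1
  rw [map_commutatorElement, commutatorElement_eq_one_iff_mul_comm]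
  exact hcom _ _

/-- An automorphism fixing `y` that is trivial modulo the centre is inner. -/
theorem mem_inn {δ : MulAut ↥R} (hy : δ ⟨y, hP.mem⟩ = ⟨y, hP.mem⟩) (hδ : ∀ g, g⁻¹ * δ g ∈ center ↥R) :
    δ ∈ Inn R := by
  classical
  obtain ⟨x, hx⟩ := hP.exists_outside h hE
  have hc := (maxclass_of_mem h hE hP.le hP.mem (hP.exp x) hx hP.card).1
  obtain ⟨hZ, hZ3⟩ := hP.center_eq h hE
  obtain ⟨b, hb⟩ : ∃ b, b ∉ centralizer ({x} : Set ↥R) := by
    by_contra! hall
    rw [(eq_top_iff.mpr fun a _ => hall a : centralizer ({x} : Set ↥R) = ⊤), Subgroup.card_top,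
      hP.card] at hc
    norm_num at hc
  have hgen : closure ({x, b, (⟨y, hP.mem⟩ : ↥R)} : Set ↥R) = ⊤ := by
    set K := closure ({x, b, (⟨y, hP.mem⟩ : ↥R)} : Set ↥R) with hK
    have hxK : x ∈ K := subset_closure (Set.mem_insert x _)
    have hyK : (⟨y, hP.mem⟩ : ↥R) ∈ K :=
      subset_closure (Set.mem_insert_of_mem _ (Set.mem_insert_of_mem _ (Set.mem_singleton _)))
    have hbK : b ∈ K := subset_closure (Set.mem_insert_of_mem _ (Set.mem_insert b _))
    have hlt : zpowers (⟨y, hP.mem⟩ : ↥R) < zpowers x ⊔ zpowers (⟨y, hP.mem⟩ : ↥R) := by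
      refine lt_of_le_of_ne le_sup_right fun he => ?_
      have : x ∈ center ↥R := hZ ▸ he ▸ mem_sup_left (mem_zpowers x)
      exact hb (mem_centralizer_singleton_iff.mpr (mem_center_iff.mp this b))
    have h1 := PGroup.mul_card_le_card (S.2.to_le hP.le) hlt
    rw [← hZ, hZ3] at h1
    have hlt2 : zpowers x ⊔ zpowers (⟨y, hP.mem⟩ : ↥R) < K := by
      refine lt_of_le_of_ne (sup_le (zpowers_le.mpr hxK) (zpowers_le.mpr hyK)) fun he => hb ?_
      have hle : zpowers x ⊔ zpowers (⟨y, hP.mem⟩ : ↥R) ≤ centralizer ({x} : Set ↥R) := by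
        rw [← hZ, sup_le_iff, zpowers_le]
        exact ⟨mem_centralizer_singleton_iff.mpr rfl,
          fun a ha => mem_centralizer_singleton_iff.mpr (mem_center_iff.mp ha x).symm⟩
      exact hle (he ▸ hbK)
    have h2 := PGroup.mul_card_le_card (S.2.to_le hP.le) hlt2
    rw [← hZ] at h2
    refine eq_top_of_le_card _ ?_
    rw [hP.card]
    omega
  let X : Set (MulAut ↥R) := {δ | δ ⟨y, hP.mem⟩ = ⟨y, hP.mem⟩ ∧ ∀ g, g⁻¹ * δ g ∈ center ↥R}
  have hfin : Finite (MulAut ↥R) :=
    Finite.of_injective (fun b : MulAut ↥R => (b : ↥R → ↥R)) DFunLike.coe_injective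
  have hsub : (Set.range (MulAut.conj : ↥R →* MulAut ↥R)) ⊆ X := by
    rintro _ ⟨g, rfl⟩
    refine ⟨?_, fun a => ?_⟩
    · rw [MulAut.conj_apply, mem_center_iff.mp (hZ ▸ mem_zpowers _) g, mul_inv_cancel_right]
    · refine hP.commutator_le_center h hE ?_
      have e : a⁻¹ * MulAut.conj g a = ⁅a⁻¹, g⁆ := by
        rw [MulAut.conj_apply, commutatorElement_def]; group
      rw [e]
      exact commutator_mem_commutator (mem_top _) (mem_top _)
  have hXcard : Nat.card X ≤ 3 ^ 2 := by
    rw [pow_two, ← hZ3, ← Nat.card_prod]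
    refine Nat.card_le_card_of_injective
      (fun d => ((⟨x⁻¹ * d.1 x, d.2.2 x⟩ : center ↥R), (⟨b⁻¹ * d.1 b, d.2.2 b⟩ : center ↥R))) ?_
    intro d d' hdd
    have h1 : d.1 x = d'.1 x :=
      mul_left_cancel (congrArg (fun q : center ↥R × center ↥R => (q.1 : ↥R)) hdd)
    have h2 : d.1 b = d'.1 b :=
      mul_left_cancel (congrArg (fun q : center ↥R × center ↥R => (q.2 : ↥R)) hdd)
    refine Subtype.ext (MulEquiv.toMonoidHom_injective (MonoidHom.eq_of_eqOn_dense hgen ?_))
    rintro a (rfl | rfl | rfl)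
    · exact h1
    · exact h2
    · exact d.2.1.trans d'.2.1.symm
  have heq : Set.range (MulAut.conj : ↥R →* MulAut ↥R) = X := by
    refine Set.eq_of_subset_of_ncard_le hsub ?_ (Set.toFinite X)
    rw [← Nat.card_coe_set_eq, ← Nat.card_coe_set_eq]
    refine hXcard.trans ?_
    have hr : Nat.card (MulAut.conj : ↥R →* MulAut ↥R).range = 3 ^ 2 := by
      rw [← Subgroup.index_ker]
      have hker : (MulAut.conj : ↥R →* MulAut ↥R).ker = center ↥R := by
        ext g
        rw [MonoidHom.mem_ker, mem_center_iff, DFunLike.ext_iff]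
        refine forall_congr' fun a => ?_
        rw [MulAut.conj_apply, MulAut.one_apply, mul_inv_eq_iff_eq_mul, eq_comm]
      rw [hker]
      exact hP.index_center h hE
    exact hr.symm.le
  have hmem : δ ∈ Set.range (MulAut.conj : ↥R →* MulAut ↥R) := heq ▸ ⟨hy, hδ⟩
  exact hmem

/-- A coprime automorphism fixing `y` and a point modulo the centre is trivial modulo the centre. -/
theorem trivial_of_fixed {δ : MulAut ↥R} {m : ℕ} (hm : δ ^ m = 1) (hco : Nat.Coprime m 3)
    (hy : δ ⟨y, hP.mem⟩ = ⟨y, hP.mem⟩) {v : ↥R} (hv : v ∉ center ↥R) (hfv : v⁻¹ * δ v ∈ center ↥R)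
    (g : ↥R) : g⁻¹ * δ g ∈ center ↥R := by
  obtain ⟨hZ, hZ3⟩ := hP.center_eq h hE
  have hR3 : IsPGroup 3 ↥R := S.2.to_le hP.le
  set Z := center ↥R with hZdef
  have hδZ : ∀ z ∈ Z, δ z = z := by
    intro z hz
    rw [hZ] at hz
    obtain ⟨i, rfl⟩ := mem_zpowers_iff.mp hz
    rw [map_zpow, hy]
  have hlt : Z < Z ⊔ zpowers v := lt_of_le_of_ne le_sup_left fun he =>
    hv (he ▸ mem_sup_right (mem_zpowers v))
  set M := Z ⊔ zpowers v with hM
  have hMc : M ≤ centralizer ({v} : Set ↥R) := by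
    rw [hM, sup_le_iff, zpowers_le]
    exact ⟨fun a ha => mem_centralizer_singleton_iff.mpr (mem_center_iff.mp ha v).symm,
      mem_centralizer_singleton_iff.mpr rfl⟩
  have hMtop : M ≠ ⊤ := fun he => hv (mem_center_iff.mpr fun a =>
    mem_centralizer_singleton_iff.mp (hMc (he ▸ mem_top a)))
  have hMco : IsCoatom M := by
    refine ⟨hMtop, fun K hK => ?_⟩
    by_contra hK'
    have h1 := PGroup.mul_card_le_card hR3 hlt
    have h2 := PGroup.mul_card_le_card hR3 hK
    have h3 := PGroup.mul_card_le_card hR3 (lt_top_iff_ne_top.mpr hK')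
    rw [Subgroup.card_top, hP.card] at h3
    rw [hZ3] at h1
    omega
  have hMn : M.Normal := PGroup.normal_of_isCoatom hR3 hMco
  have hMfix : ∀ u ∈ M, u⁻¹ * δ u ∈ Z := by
    have hle : M ≤ ((QuotientGroup.mk' Z).comp δ.toMonoidHom).eqLocus (QuotientGroup.mk' Z) := by
      rw [hM, sup_le_iff, zpowers_le]
      refine ⟨fun a ha => ?_, (QuotientGroup.eq.mpr hfv).symm⟩
      show QuotientGroup.mk' Z (δ a) = QuotientGroup.mk' Z a
      rw [hδZ a ha]
    intro u hu
    exact QuotientGroup.eq.mp (hle hu : QuotientGroup.mk' Z (δ u) = QuotientGroup.mk' Z u).symm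
  obtain ⟨w, -, hw⟩ := SetLike.exists_of_lt (lt_top_iff_ne_top.mpr hMtop)
  have hsup : M ⊔ zpowers w = ⊤ := hMco.2 _ (lt_of_le_of_ne le_sup_left fun he =>
    hw (he ▸ mem_sup_right (mem_zpowers w)))
  have hδw : δ w ∈ ((M ⊔ zpowers w : Subgroup ↥R) : Set ↥R) := by rw [hsup]; exact mem_top _
  rw [Subgroup.normal_mul, Set.mem_mul] at hδw
  obtain ⟨k, hk, _, ⟨a, rfl⟩, hka⟩ := hδw
  set c := v * w * v⁻¹ * w⁻¹ with hc
  have hcZ : c ∈ Z := hP.commutator_le_center h hE
    (commutator_mem_commutator (mem_top v) (mem_top w))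
  have hc1 : c ≠ 1 := by
    intro he
    refine hv (mem_center_iff.mpr fun b => ?_)
    have hle : M ⊔ zpowers w ≤ centralizer ({v} : Set ↥R) := by
      rw [sup_le_iff, zpowers_le, mem_centralizer_singleton_iff]
      refine ⟨hMc, ?_⟩
      rw [hc, mul_inv_eq_one, mul_inv_eq_iff_eq_mul] at he
      exact he.symm
    rw [hsup] at hle
    exact mem_centralizer_singleton_iff.mp (hle (mem_top b))
  have hcentral : ∀ b, b * c = c * b := mem_center_iff.mp hcZ
  have hconjw : v * w ^ a * v⁻¹ = c ^ a * w ^ a := by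
    rw [← conj_zpow, show v * w * v⁻¹ = c * w by rw [hc]; group,
      (show Commute c w from (hcentral w).symm).mul_zpow]
  have hval : δ v * δ w * (δ v)⁻¹ * (δ w)⁻¹ = c ^ a := by
    obtain ⟨z, hz, hδv⟩ : ∃ z ∈ Z, δ v = v * z := ⟨v⁻¹ * δ v, hfv, by group⟩
    have hkv : v * k * v⁻¹ = k :=
      mul_inv_eq_iff_eq_mul.mpr (mem_centralizer_singleton_iff.mp (hMc hk)).symm
    have hzc : ∀ b, z * b * z⁻¹ = b := fun b => by
      rw [← mem_center_iff.mp hz b, mul_inv_cancel_right]
    calc δ v * δ w * (δ v)⁻¹ * (δ w)⁻¹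
        = v * (z * (k * w ^ a) * z⁻¹) * v⁻¹ * (k * w ^ a)⁻¹ := by
          rw [hδv, ← hka]; simp only [mul_inv_rev, mul_assoc]
      _ = (v * k * v⁻¹) * (v * w ^ a * v⁻¹) * (k * w ^ a)⁻¹ := by rw [hzc]; group
      _ = k * c ^ a * k⁻¹ := by rw [hkv, hconjw]; group
      _ = c ^ a := by rw [mem_center_iff.mp (zpow_mem hcZ a) k, mul_inv_cancel_right]
  have hδc : δ c = c ^ a := by rw [← hval, hc, map_mul, map_mul, map_mul, map_inv, map_inv]
  rw [hδZ c hcZ] at hδc
  have hwa : w ^ a = w := by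
    have h1 : c ^ (a - 1) = 1 := by rw [zpow_sub, zpow_one, ← hδc, mul_inv_cancel]
    rw [← orderOf_dvd_iff_zpow_eq_one, orderOf_eq_prime (hP.exp c) hc1] at h1
    obtain ⟨d, hd⟩ := h1
    rw [show a = (3 : ℕ) * d + 1 by omega, zpow_add, zpow_mul, zpow_natCast, hP.exp w, one_zpow, one_mul,
      zpow_one]
  refine mem_of_stabilize hR3 (M := M) hm hco (fun z hz => (hδZ z hz).symm ▸ hz) hMfix (fun u => ?_) g
  have hle : (⊤ : Subgroup ↥R) ≤ ((QuotientGroup.mk' M).comp δ.toMonoidHom).eqLocus (QuotientGroup.mk' M) := by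
    rw [← hsup, sup_le_iff, zpowers_le]
    refine ⟨fun b hb => (QuotientGroup.eq.mpr (hlt.le (hMfix b hb))).symm, ?_⟩
    show QuotientGroup.mk' M (δ w) = QuotientGroup.mk' M w
    rw [← hka]
    show QuotientGroup.mk' M (k * w ^ a) = _
    rw [hwa, map_mul, show QuotientGroup.mk' M k = 1 from (QuotientGroup.eq_one_iff k).mpr hk, one_mul]
  exact QuotientGroup.eq.mp (hle (mem_top u) : QuotientGroup.mk' M (δ u) = QuotientGroup.mk' M u).symm

omit h in
theorem coprime_of_not_dvd {m : ℕ} (hm : ¬ 3 ∣ m) : Nat.Coprime m 3 :=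
  Nat.coprime_comm.mp (Nat.prime_three.coprime_iff_not_dvd.mpr hm)

/-- An essential subgroup of this shape has an automorphism inverting it modulo its centre. -/
theorem exists_inversion (hR : (groupFusionSystem (S : Subgroup L)).IsEssential 3 R) :
    ∃ γ ∈ (groupFusionSystem (S : Subgroup L)).autGroup R, ∀ g, γ g * g ∈ center ↥R := by
  classical
  obtain ⟨hZ, hZ3⟩ := hP.center_eq h hE
  set A := (groupFusionSystem (S : Subgroup L)).autGroup R
  have hR3 : IsPGroup 3 ↥R := S.2.to_le hP.le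
  have hfin : Finite (MulAut ↥R) :=
    Finite.of_injective (fun b : MulAut ↥R => (b : ↥R → ↥R)) DFunLike.coe_injective
  obtain ⟨α, hα, k, m, hm, hk, hβ1⟩ : ∃ α ∈ A, ∃ k m : ℕ, ¬ 3 ∣ m ∧ orderOf α = 3 ^ k * m ∧
      α ^ 3 ^ k ≠ 1 := by
    by_contra! hall
    have hAp : IsPGroup 3 A := by
      rintro ⟨α, hα⟩
      obtain ⟨k, m, hm, hk⟩ := Nat.exists_eq_pow_mul_and_not_dvd (orderOf_pos α).ne' 3 (by norm_num)
      exact ⟨k, Subtype.ext (hall α hα k m hm hk)⟩
    obtain ⟨β, hβ, -, hβI⟩ := SmallEss.exists_pElement_not_inn hR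
    exact hβI (SmallEss.pGroup_le_inn hR le_rfl
      (fun a ha b hb => A.mul_mem (A.mul_mem hb ha) (A.inv_mem hb)) hAp hβ)
  set β := α ^ 3 ^ k with hβ
  have hβA : β ∈ A := A.pow_mem hα _
  have hβm : β ^ m = 1 := by rw [hβ, ← pow_mul, ← hk, pow_orderOf_eq_one]
  have hco : Nat.Coprime m 3 := hP.coprime_of_not_dvd hE hm
  have hfix : ∀ γ ∈ A, γ ⟨y, hP.mem⟩ = ⟨y, hP.mem⟩ := fun γ hγ => h.aut_fix hP.le hP.mem hγ
  have hmove : ¬ ∀ g, g⁻¹ * β g ∈ center ↥R := by
    intro hall
    have hI := hP.mem_inn h hE (hfix β hβA) hall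
    obtain ⟨g, hg⟩ := hI
    obtain ⟨j, hj⟩ := hR3 g
    refine hβ1 ?_
    have h1 : β ^ 3 ^ j = 1 := by rw [← hg, ← map_pow, hj, map_one]
    have h2 := pow_gcd_eq_one.mpr ⟨hβm, h1⟩
    rwa [hco.pow_right j, pow_one] at h2
  set Z := center ↥R with hZdef
  have hmapZ : ∀ δ ∈ A, Z.map δ.toMonoidHom = Z := by
    intro δ hδ
    rw [hZ, MonoidHom.map_zpowers]
    exact congrArg zpowers (hfix δ hδ)
  let σ : MulAut (↥R ⧸ Z) := QuotientGroup.congr Z Z β (hmapZ β hβA)
  have hσ : ∀ (j : ℕ) (g : ↥R), (σ ^ j) (QuotientGroup.mk g) = QuotientGroup.mk ((β ^ j) g) := by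
    intro j
    induction j with
    | zero => intro g; rfl
    | succ j ih =>
      intro g
      rw [pow_succ' σ, pow_succ' β, MulAut.mul_apply, ih, MulAut.mul_apply]
      rfl
  have hσ1 : σ ≠ 1 := by
    intro he
    refine hmove fun g => QuotientGroup.eq.mp ?_
    have h1 := hσ 1 g
    rw [pow_one, pow_one, he, MulAut.one_apply] at h1
    exact h1
  have hfinQ : Finite (MulAut (↥R ⧸ Z)) :=
    Finite.of_injective (fun b : MulAut (↥R ⧸ Z) => (b : ↥R ⧸ Z → ↥R ⧸ Z)) DFunLike.coe_injective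
  have hno1 : orderOf σ ≠ 1 := fun he => hσ1 (orderOf_eq_one_iff.mp he)
  obtain ⟨r, hr, hrd⟩ := Nat.exists_prime_and_dvd hno1
  set j := orderOf σ / r with hj
  have hord : orderOf (σ ^ j) = r := by
    rw [hj]; exact orderOf_pow_orderOf_div (orderOf_pos σ).ne' hrd
  have hτ1 : σ ^ j ≠ 1 := fun he => hr.ne_one (hord ▸ orderOf_eq_one_iff.mpr he)
  have hfree : ∀ g : ↥R, (σ ^ j) (QuotientGroup.mk g) = QuotientGroup.mk g → g ∈ Z := by
    intro g hg
    by_contra hgZ
    rw [hσ] at hg
    have hall := hP.trivial_of_fixed h hE (δ := β ^ j) (m := m)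
      (by rw [← pow_mul, mul_comm, pow_mul, hβm, one_pow]) hco (hfix _ (A.pow_mem hβA j)) hgZ
      (QuotientGroup.eq.mp hg.symm)
    refine hτ1 (MulEquiv.ext fun q => ?_)
    obtain ⟨u, rfl⟩ := QuotientGroup.mk_surjective q
    rw [hσ]
    exact (QuotientGroup.eq.mpr (hall u)).symm
  have : Fact r.Prime := ⟨hr⟩
  have hr2 : r = 2 := by
    have hp : IsPGroup r (zpowers (σ ^ j)) := IsPGroup.of_card (n := 1) (by rw [Nat.card_zpowers, hord, pow_one])
    have hmod := hp.card_modEq_card_fixedPoints (↥R ⧸ Z)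
    have hfp : MulAction.fixedPoints (zpowers (σ ^ j)) (↥R ⧸ Z) = {1} := by
      ext q
      refine ⟨fun hq => ?_, ?_⟩
      · obtain ⟨g, rfl⟩ := QuotientGroup.mk_surjective q
        exact (QuotientGroup.eq_one_iff g).mpr (hfree g (hq ⟨σ ^ j, mem_zpowers _⟩))
      · rintro rfl ⟨δ, hδ⟩
        exact map_one δ
    rw [hfp, ← Subgroup.index_eq_card, hP.index_center h hE] at hmod
    simp only [Nat.card_unique] at hmod
    have hd : r ∣ 3 ^ 2 - 1 := (Nat.modEq_iff_dvd' (by norm_num)).mp hmod.symm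
    rw [show (3 : ℕ) ^ 2 - 1 = 2 ^ 3 by norm_num] at hd
    exact (Nat.prime_dvd_prime_iff_eq hr Nat.prime_two).mp (hr.dvd_of_dvd_pow hd)
  refine ⟨β ^ j, A.pow_mem hβA j, fun g => hfree _ ?_⟩
  have h2 : ∀ q, (σ ^ j) ((σ ^ j) q) = q := fun q => by
    rw [← MulAut.mul_apply, ← pow_two, ← hr2, ← hord, pow_orderOf_eq_one, MulAut.one_apply]
  have hcom := IsPGroup.commutative_of_card_eq_prime_sq (p := 3)
    (show Nat.card (↥R ⧸ Z) = 3 ^ 2 by rw [← Subgroup.index_eq_card]; exact hP.index_center h hE)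
  have e : (QuotientGroup.mk ((β ^ j) g * g) : ↥R ⧸ Z) =
      (σ ^ j) (QuotientGroup.mk g) * QuotientGroup.mk g := by
    rw [QuotientGroup.mk_mul, hσ]
  rw [e, map_mul, h2]
  exact hcom _ _

end PearlAt

end Cfsg.Agent.IsolatedRankTwo
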