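import Cfsg.Agent.Lib.IsolatedRankTwo.Flag

/-!
# Flags for metacyclic groups and for Blackburn's two families

* `metacyclic_flag`, `metacyclic_not_onto_wreath`
* `Shape`: the common form of the two families; `shape_flag`, `Shape.not_onto_wreath`
-/

set_option autoImplicit false
set_option linter.unusedSectionVars false

namespace Cfsg.Agent.IsolatedRankTwo

open Subgroup
open scoped commutatorElement

universe u

variable {P : Type u} [Group P] {p : ℕ}

theorem isMetacyclic_of_surjective {Q : Type u} [Group Q] (f : P →* Q) (hf : Function.Surjective f)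
    (h : Cfsg.IsMetacyclic P) : Cfsg.IsMetacyclic Q := by
  obtain ⟨N, hN, hc, hq⟩ := h
  have hn : (N.map f).Normal := hN.map f hf
  refine ⟨N.map f, hn, isCyclic_of_surjective (f.subgroupMap N) (f.subgroupMap_surjective N), ?_⟩
  refine isCyclic_of_surjective (QuotientGroup.map N (N.map f) f (le_comap_map f N)) ?_
  refine fun q => ?_
  obtain ⟨b, rfl⟩ := QuotientGroup.mk_surjective q
  obtain ⟨a, rfl⟩ := hf b
  exact ⟨a, rfl⟩

variable [Finite P] [Fact p.Prime]

theorem commutator_powerClosure_le (hP : IsPGroup p P) (hp2 : p ≠ 2) {a b : P}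
    (H : PGroup.MetaGen a b) (u v : P) (i : ℕ) :
    Cfsg.powerClosure p i ⁅closure ({u, v} : Set P), closure ({u, v} : Set P)⁆ ≤
      Cfsg.powerClosure p (i + 1) ⊤ := by
  refine (closure_le _).mpr ?_
  rintro _ ⟨d, hd, rfl⟩
  obtain ⟨k, hk⟩ := mem_zpowers_iff.mp
    (H.commutator_le_pow hP hp2 (commutator_mono le_top le_top hd))
  refine subset_closure ⟨a ^ k, mem_top _, ?_⟩
  rw [← hk, ← zpow_natCast a p, ← zpow_mul, mul_comm, zpow_mul, zpow_natCast, ← pow_mul,
    ← pow_succ' p i]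

theorem powerClosure_char (i : ℕ) (α : MulAut P) {x : P} (hx : x ∈ Cfsg.powerClosure p i ⊤) :
    α x ∈ Cfsg.powerClosure p i ⊤ := by
  induction hx using closure_induction with
  | mem a ha =>
    obtain ⟨b, -, rfl⟩ := ha
    exact subset_closure ⟨α b, mem_top _, map_pow α b _⟩
  | one => rw [map_one]; exact one_mem _
  | mul a b _ _ ha hb => rw [map_mul]; exact mul_mem ha hb
  | inv a _ ha => rw [map_inv]; exact inv_mem ha

theorem metacyclic_flag (hP : IsPGroup p P) (hp2 : p ≠ 2) (hm : Cfsg.IsMetacyclic P) {y : P}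
    (hy : y ≠ 1) : HasFixedFlag p y := by
  classical
  obtain ⟨a, b, H⟩ := PGroup.exists_metaGen hm
  obtain ⟨N, hN⟩ := IsPGroup.iff_card.mp hP
  have hex : ∃ i, y ∉ Cfsg.powerClosure p (i + 1) ⊤ := by
    refine ⟨N, fun h => hy ?_⟩
    have hle : Cfsg.powerClosure p (N + 1) (⊤ : Subgroup P) ≤ ⊥ := by
      refine (closure_le _).mpr ?_
      rintro _ ⟨x, -, rfl⟩
      rw [SetLike.mem_coe, mem_bot, pow_succ, pow_mul, ← hN, pow_card_eq_one', one_pow]
    exact mem_bot.mp (hle h)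
  set i := Nat.find hex with hi
  have hout : y ∉ Cfsg.powerClosure p (i + 1) ⊤ := Nat.find_spec hex
  have hin : y ∈ Cfsg.powerClosure p i ⊤ := by
    rcases Nat.eq_zero_or_pos i with h0 | h0
    · rw [h0]
      exact subset_closure ⟨y, mem_top _, by simp⟩
    · have := Nat.find_min hex (show i - 1 < i by omega)
      rw [not_not, Nat.sub_add_cancel h0] at this
      exact this
  set W : Subgroup P := Cfsg.powerClosure p (i + 1) ⊤ with hW
  have hWn : W.Normal := ⟨fun x hx g => by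
    simpa using powerClosure_char (p := p) (i + 1) (MulAut.conj g) hx⟩
  have hmul : ∀ u v : P, QuotientGroup.mk' W ((u * v) ^ p ^ i) =
      QuotientGroup.mk' W (u ^ p ^ i) * QuotientGroup.mk' W (v ^ p ^ i) := by
    intro u v
    obtain ⟨c, hc, he⟩ := (H.isRegular hP hp2).2 u v i
    have h1 : QuotientGroup.mk' W c = 1 :=
      (QuotientGroup.eq_one_iff c).mpr (commutator_powerClosure_le hP hp2 H u v i hc)
    rw [he, map_mul, map_mul, h1, mul_one]
  let ψ : P →* P ⧸ W := MonoidHom.mk' (fun u => QuotientGroup.mk' W (u ^ p ^ i)) hmul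
  refine hasFixedFlag_of_hom ψ (QuotientGroup.mk' W y)
    (fun h => hout ((QuotientGroup.eq_one_iff y).mp h)) ?_ (fun u => ?_) (fun u v => ?_)
    (fun α hα u hu => ?_)
  · have hle : (Cfsg.powerClosure p i (⊤ : Subgroup P)).map (QuotientGroup.mk' W) ≤ ψ.range := by
      rw [map_le_iff_le_comap]
      refine (closure_le _).mpr ?_
      rintro _ ⟨x, -, rfl⟩
      exact ⟨x, rfl⟩
    exact hle (mem_map_of_mem _ hin)
  · show QuotientGroup.mk' W (u ^ p ^ i) ^ p = 1
    rw [← map_pow, ← pow_mul, ← pow_succ]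
    exact (QuotientGroup.eq_one_iff _).mpr (subset_closure ⟨u, mem_top _, rfl⟩)
  · have hc : ∀ d ∈ commutator P, ψ d = 1 := by
      intro d hd
      refine (QuotientGroup.eq_one_iff _).mpr ?_
      obtain ⟨k, rfl⟩ := mem_zpowers_iff.mp (H.commutator_le_pow hP hp2 hd)
      refine subset_closure ⟨a ^ k, mem_top _, ?_⟩
      rw [← zpow_natCast a p, ← zpow_mul, mul_comm, zpow_mul, zpow_natCast, ← pow_mul, ← pow_succ']
    refine commutatorElement_eq_one_iff_mul_comm.mp ?_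
    rw [← map_commutatorElement]
    exact hc _ (commutator_mem_commutator (mem_top u) (mem_top v))
  · obtain ⟨k, hk⟩ := mem_zpowers_iff.mp hu
    have hk' : (y ^ k)⁻¹ * u ^ p ^ i ∈ W := by
      rw [← map_zpow] at hk
      exact QuotientGroup.eq.mp hk
    have h2 := powerClosure_char (p := p) (i + 1) α hk'
    rw [map_mul, map_inv, map_zpow, hα, map_pow] at h2
    show QuotientGroup.mk' W ((α u) ^ p ^ i) = ψ u
    rw [← hk, ← map_zpow]
    exact (QuotientGroup.eq.mpr h2).symm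

theorem metacyclic_not_onto_wreath (hP : IsPGroup p P) (hp2 : p ≠ 2) (hm : Cfsg.IsMetacyclic P) :
    ¬ ∃ f : P →* Fusion.Yoshida.C p ≀ᵣ Fusion.Yoshida.C p, Function.Surjective f := by
  obtain ⟨a, b, H⟩ := PGroup.exists_metaGen hm
  refine not_onto_wreath fun f u v => ?_
  obtain ⟨c, hc, he⟩ := (H.isRegular hP hp2).2 u v 1
  rw [pow_one] at he
  have hker : Cfsg.powerClosure p 1 ⁅closure ({u, v} : Set P), closure ({u, v} : Set P)⁆ ≤ f.ker := by
    refine (closure_le _).mpr ?_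
    rintro _ ⟨d, hd, rfl⟩
    have hd' : d ∈ commutator P := commutator_mono le_top le_top hd
    rw [SetLike.mem_coe, MonoidHom.mem_ker, pow_one, map_pow]
    refine wreath_pow_eq_one ?_
    let π : P →* Fusion.Yoshida.C p :=
      MonoidHom.mk' (fun x => (f x).right) fun x z => by rw [map_mul]; rfl
    exact MonoidHom.mem_ker.mp (Abelianization.commutator_subset_ker π hd')
  rw [he, map_mul, map_mul, MonoidHom.mem_ker.mp (hker hc), mul_one]

/-! ### Blackburn's families -/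

/-- The common form of Blackburn's two families of order `p^(k+4)`. -/
structure Shape (p k : ℕ) (x y z : P) (s t : ℕ) : Prop where
  gen : closure ({x, y, z} : Set P) = ⊤
  xp : x ^ p = 1
  yp : y ^ p = 1
  zord : orderOf z = p ^ (k + 2)
  yz : Commute y z
  conjy : x * y * x⁻¹ = y * z ^ (s * p ^ (k + 1))
  conjz : x * z * x⁻¹ = y ^ t * z
  hs : ¬ p ∣ s
  odd : p ≠ 2
  good : 3 < p ∨ 1 ≤ k ∨ t = 0

namespace Shape

variable {k s t : ℕ} {x y z : P} (h : Shape p k x y z s t)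

include h

theorem zpow_p_conj : x * z ^ p * x⁻¹ = z ^ p := by
  rw [← conj_pow, h.conjz, (h.yz.pow_left t).mul_pow, ← pow_mul, mul_comm t p, pow_mul, h.yp,
    one_pow, one_mul]

theorem zpow_p_central : z ^ p ∈ center P := by
  have hle : closure ({x, y, z} : Set P) ≤ centralizer ({z ^ p} : Set P) := by
    refine (closure_le _).mpr ?_
    rintro g (rfl | rfl | rfl) <;> rw [SetLike.mem_coe, mem_centralizer_singleton_iff]
    · exact mul_inv_eq_iff_eq_mul.mp h.zpow_p_conj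
    · exact (h.yz.pow_right p).eq
    · exact ((Commute.refl _).pow_right p).eq
  rw [h.gen] at hle
  exact mem_center_iff.mpr fun g => mem_centralizer_singleton_iff.mp (hle (mem_top g))

/-- The central element of order `p`. -/
theorem e_central : z ^ p ^ (k + 1) ∈ center P := by
  rw [pow_succ', pow_mul]
  exact pow_mem h.zpow_p_central _

theorem e_pow : (z ^ p ^ (k + 1)) ^ p = 1 := by
  rw [← pow_mul, ← pow_succ]
  exact h.zord ▸ pow_orderOf_eq_one z

theorem e_ne : z ^ p ^ (k + 1) ≠ 1 := by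
  intro he
  have := orderOf_dvd_of_pow_eq_one he
  rw [h.zord, Nat.pow_dvd_pow_iff_le_right (Fact.out : p.Prime).one_lt] at this
  omega

theorem conj_form (i j : ℤ) : x * (y ^ i * z ^ j) * x⁻¹ * (y ^ i * z ^ j)⁻¹ =
    (z ^ p ^ (k + 1)) ^ ((s : ℤ) * i) * (y ^ t) ^ j := by
  have hc := mem_center_iff.mp h.e_central
  have he : Commute y (z ^ p ^ (k + 1)) := hc y
  have h1 : x * (y ^ i * z ^ j) * x⁻¹ =
      (y * (z ^ p ^ (k + 1)) ^ s) ^ i * (y ^ t * z) ^ j := by
    rw [← conj_mul, ← conj_zpow, ← conj_zpow, h.conjy, h.conjz, ← pow_mul, mul_comm s]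
  rw [h1, (he.pow_right s).mul_zpow, (h.yz.pow_left t).mul_zpow, ← zpow_natCast _ s, ← zpow_mul]
  set E := (z ^ p ^ (k + 1)) ^ ((s : ℤ) * i) with hE
  have hEc : ∀ g, g * E = E * g := fun g => mem_center_iff.mp (zpow_mem h.e_central _) g
  have hyt : Commute (y ^ i) ((y ^ t) ^ j) := (((Commute.refl y).pow_right t).zpow_left i).zpow_right j
  rw [hEc, mul_assoc E, ← mul_assoc (y ^ i), hyt.eq]
  group

/-- The abelian subgroup `⟨y, z⟩`. -/
theorem mem_C {c : P} (hc : c ∈ closure ({y, z} : Set P)) : ∃ i j : ℤ, c = y ^ i * z ^ j := by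
  induction hc using closure_induction with
  | mem a ha =>
    rcases ha with rfl | rfl
    · exact ⟨1, 0, by simp⟩
    · exact ⟨0, 1, by simp⟩
  | one => exact ⟨0, 0, by simp⟩
  | mul a b _ _ ha hb =>
    obtain ⟨i, j, rfl⟩ := ha
    obtain ⟨i', j', rfl⟩ := hb
    refine ⟨i + i', j + j', ?_⟩
    rw [zpow_add, zpow_add, mul_assoc (y ^ i), ← mul_assoc (z ^ j), ((h.yz.zpow_zpow i' j).symm).eq]
    simp only [mul_assoc]
  | inv a _ ha =>
    obtain ⟨i, j, rfl⟩ := ha
    refine ⟨-i, -j, ?_⟩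
    rw [mul_inv_rev, zpow_neg, zpow_neg]
    exact (h.yz.zpow_zpow i j).symm.inv_inv.eq

theorem commute_C {c d : P} (hc : c ∈ closure ({y, z} : Set P)) (hd : d ∈ closure ({y, z} : Set P)) :
    Commute c d := by
  obtain ⟨i, j, rfl⟩ := h.mem_C hc
  obtain ⟨i', j', rfl⟩ := h.mem_C hd
  have h1 : Commute (y ^ i) (y ^ i') := (Commute.refl y).zpow_zpow i i'
  have h2 : Commute (z ^ j) (z ^ j') := (Commute.refl z).zpow_zpow j j'
  exact ((h1.mul_right (h.yz.zpow_zpow i j')).mul_left ((h.yz.symm.zpow_zpow j i').mul_right h2))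

theorem D_le : closure ({y ^ t, z ^ p ^ (k + 1)} : Set P) ≤ closure ({y, z} : Set P) := by
  refine (closure_le _).mpr ?_
  rintro g (rfl | rfl)
  · exact Subgroup.pow_mem _ (subset_closure (Set.mem_insert y _)) t
  · exact Subgroup.pow_mem _ (subset_closure (Set.mem_insert_of_mem y (Set.mem_singleton z))) _

theorem D_pow {d : P} (hd : d ∈ closure ({y ^ t, z ^ p ^ (k + 1)} : Set P)) : d ^ p = 1 := by
  induction hd using closure_induction with
  | mem a ha =>
    rcases ha with rfl | rfl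
    · rw [← pow_mul, mul_comm, pow_mul, h.yp, one_pow]
    · exact h.e_pow
  | one => exact one_pow p
  | mul a b ha hb hpa hpb =>
    rw [(h.commute_C (h.D_le ha) (h.D_le hb)).mul_pow, hpa, hpb, one_mul]
  | inv a _ hpa => rw [inv_pow, hpa, inv_one]

theorem e_mem_D : z ^ p ^ (k + 1) ∈ closure ({y ^ t, z ^ p ^ (k + 1)} : Set P) :=
  subset_closure (Set.mem_insert_of_mem (y ^ t) (Set.mem_singleton (z ^ p ^ (k + 1))))

theorem yt_mem_D : y ^ t ∈ closure ({y ^ t, z ^ p ^ (k + 1)} : Set P) :=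
  subset_closure (Set.mem_insert (y ^ t) _)

theorem zp_le_D : zpowers (z ^ p ^ (k + 1)) ≤ closure ({y ^ t, z ^ p ^ (k + 1)} : Set P) :=
  zpowers_le.mpr h.e_mem_D

theorem e_zp_central {g : P} (hg : g ∈ zpowers (z ^ p ^ (k + 1))) (a : P) : a * g = g * a :=
  mem_center_iff.mp ((zpowers_le (g := z ^ p ^ (k + 1)) (H := center P)).mpr h.e_central hg) a

theorem comm_C {c : P} (hc : c ∈ closure ({y, z} : Set P)) :
    x * c * x⁻¹ * c⁻¹ ∈ closure ({y ^ t, z ^ p ^ (k + 1)} : Set P) := by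
  obtain ⟨i, j, rfl⟩ := h.mem_C hc
  rw [h.conj_form]
  exact Subgroup.mul_mem _ (Subgroup.zpow_mem _ h.e_mem_D _) (Subgroup.zpow_mem _ h.yt_mem_D _)

theorem comm_D {d : P} (hd : d ∈ closure ({y ^ t, z ^ p ^ (k + 1)} : Set P)) :
    x * d * x⁻¹ * d⁻¹ ∈ zpowers (z ^ p ^ (k + 1)) := by
  induction hd using closure_induction with
  | mem a ha =>
    rcases ha with rfl | rfl
    · have hj := h.conj_form t 0
      simp only [zpow_natCast, zpow_zero, mul_one] at hj
      rw [hj]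
      exact zpow_mem (mem_zpowers _) _
    · rw [mem_center_iff.mp h.e_central x]
      simp
  | one => simp
  | mul a b _ _ ha hb =>
    have hbc : ∀ g, g * (x * b * x⁻¹ * b⁻¹) = x * b * x⁻¹ * b⁻¹ * g := h.e_zp_central hb
    have e : x * (a * b) * x⁻¹ * (a * b)⁻¹ =
        x * a * x⁻¹ * ((x * b * x⁻¹ * b⁻¹) * a⁻¹) := by group
    rw [e, ← hbc, ← mul_assoc]
    exact mul_mem ha hb
  | inv a _ ha =>
    have hac : ∀ g, g * (x * a * x⁻¹ * a⁻¹)⁻¹ = (x * a * x⁻¹ * a⁻¹)⁻¹ * g := fun g =>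
      h.e_zp_central (inv_mem ha) g
    have e : x * a⁻¹ * x⁻¹ * a⁻¹⁻¹ = a⁻¹ * (x * a * x⁻¹ * a⁻¹)⁻¹ * a := by group
    rw [e, hac, mul_assoc, inv_mul_cancel, mul_one]
    exact inv_mem ha

theorem comm_pow (i : ℕ) :
    (∀ c ∈ closure ({y, z} : Set P), x ^ i * c * (x ^ i)⁻¹ * c⁻¹ ∈ closure ({y ^ t, z ^ p ^ (k + 1)} : Set P)) ∧
      ∀ d ∈ closure ({y ^ t, z ^ p ^ (k + 1)} : Set P),
        x ^ i * d * (x ^ i)⁻¹ * d⁻¹ ∈ zpowers (z ^ p ^ (k + 1)) := by
  induction i with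
  | zero => simp
  | succ i ih =>
    constructor
    · intro c hc
      have hd := ih.1 c hc
      have e : x ^ (i + 1) * c * (x ^ (i + 1))⁻¹ * c⁻¹ =
          (x * (x ^ i * c * (x ^ i)⁻¹ * c⁻¹) * x⁻¹ * (x ^ i * c * (x ^ i)⁻¹ * c⁻¹)⁻¹) *
            (x ^ i * c * (x ^ i)⁻¹ * c⁻¹) * (x * c * x⁻¹ * c⁻¹) := by
        rw [pow_succ']
        group
      rw [e]
      refine mul_mem (mul_mem ?_ hd) (h.comm_C hc)
      exact h.zp_le_D (h.comm_D hd)
    · intro d hd
      have he := ih.2 d hd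
      have hec := h.e_zp_central he x
      have e : x ^ (i + 1) * d * (x ^ (i + 1))⁻¹ * d⁻¹ =
          x * (x ^ i * d * (x ^ i)⁻¹ * d⁻¹) * x⁻¹ * (x * d * x⁻¹ * d⁻¹) := by
        rw [pow_succ']
        group
      rw [e, hec, mul_inv_cancel_right]
      exact mul_mem he (h.comm_D hd)

theorem exists_decomp (u : P) : ∃ c ∈ closure ({y, z} : Set P), ∃ i : ℕ, u = c * x ^ i := by
  set C := closure ({y, z} : Set P) with hC
  have hx : x ∈ normalizer (C : Set P) := by
    have hle : C.map (MulAut.conj x).toMonoidHom ≤ C := by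
      rintro _ ⟨c, hc, rfl⟩
      have hm := mul_mem (h.D_le (h.comm_C hc)) hc
      simpa using hm
    exact mem_normalizer_fintype fun n hn => hle ⟨n, hn, rfl⟩
  have hy : y ∈ C := subset_closure (Set.mem_insert _ _)
  have hz : z ∈ C := subset_closure (Set.mem_insert_of_mem _ rfl)
  have htop : C ⊔ zpowers x = ⊤ := by
    rw [eq_top_iff, ← h.gen]
    refine (closure_le _).mpr ?_
    rintro g (rfl | rfl | rfl)
    · exact mem_sup_right (mem_zpowers _)
    · exact mem_sup_left hy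
    · exact mem_sup_left hz
  have hu : u ∈ ((C ⊔ zpowers x : Subgroup P) : Set P) := by rw [htop]; exact mem_top u
  rw [coe_mul_of_right_le_normalizer_left C (zpowers x) (zpowers_le.mpr hx), Set.mem_mul] at hu
  obtain ⟨c, hc, g, hg, rfl⟩ := hu
  obtain ⟨i, rfl⟩ := RankTwoClass.exists_npow hg
  exact ⟨c, hc, i, rfl⟩

theorem pow_congr (u : P) : ∃ c ∈ closure ({y, z} : Set P), ∃ i : ℕ, u = c * x ^ i ∧
    (c ^ p)⁻¹ * u ^ p ∈ zpowers (z ^ p ^ 2) := by
  obtain ⟨c, hc, i, rfl⟩ := h.exists_decomp u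
  refine ⟨c, hc, i, rfl, ?_⟩
  have hp := (Fact.out : p.Prime)
  have hd := (h.comm_pow i).1 c hc
  have he := (h.comm_pow i).2 _ hd
  set d := x ^ i * c * (x ^ i)⁻¹ * c⁻¹ with hd_def
  set e := x ^ i * d * (x ^ i)⁻¹ * d⁻¹ with he_def
  have hec : ∀ g, g * e = e * g := h.e_zp_central he
  have hform := RankTwoClass.mul_pow_formula (a := c) (x := x ^ i) (d := d) (e := e)
    (h.commute_C hc (h.D_le hd)) (hec d) (by rw [hd_def]; group) (by rw [he_def]; group)
    (by rw [hec, mul_inv_cancel_right]) p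
  have hp2 : p ∣ p.choose 2 := RankTwoClass.dvd_choose_two hp h.odd
  have hxi : (x ^ i) ^ p = 1 := by rw [← pow_mul, mul_comm, pow_mul, h.xp, one_pow]
  have hd2 : d ^ p.choose 2 * e ^ p.choose 3 ∈ zpowers (z ^ p ^ 2) := by
    have he3 : e ^ p.choose 3 ∈ zpowers (z ^ p ^ 2) := by
      rcases h.good with h3 | hk | ht
      · rw [RankTwoClass.pow_choose_eq_one ?_ (RankTwoClass.dvd_choose_three hp h3)]
        · exact one_mem _
        · obtain ⟨m, hm⟩ := mem_zpowers_iff.mp he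
          rw [← hm, ← zpow_natCast, ← zpow_mul, mul_comm, zpow_mul, zpow_natCast, h.e_pow, one_zpow]
      · refine pow_mem (zpowers_le.mpr ?_ he) _
        obtain ⟨k', rfl⟩ := Nat.exists_eq_add_of_le' hk
        exact mem_zpowers_iff.mpr ⟨(p ^ k' : ℕ), by rw [zpow_natCast, ← pow_mul]; congr 1; ring⟩
      · have hd1 : d ∈ zpowers (z ^ p ^ (k + 1)) := by
          refine (closure_le _).mpr ?_ hd
          rintro g (rfl | rfl)
          · rw [ht, pow_zero]; exact one_mem _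
          · exact mem_zpowers _
        have hx' : x ^ i * d = d * x ^ i := h.e_zp_central hd1 _
        have : e = 1 := by rw [he_def, hx', mul_inv_cancel_right, mul_inv_cancel]
        rw [this, one_pow]
        exact one_mem _
    rw [RankTwoClass.pow_choose_eq_one (h.D_pow hd) hp2, one_mul]
    exact he3
  rw [hform, hxi, mul_one, mul_assoc (c ^ p), inv_mul_cancel_left]
  exact hd2

theorem conj_y_pow (i : ℕ) :
    x ^ i * y * (x ^ i)⁻¹ = y * (z ^ p ^ (k + 1)) ^ (s * i) := by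
  induction i with
  | zero => simp
  | succ i ih =>
    have he : x * (z ^ p ^ (k + 1)) ^ (s * i) * x⁻¹ = (z ^ p ^ (k + 1)) ^ (s * i) := by
      rw [h.e_zp_central (Subgroup.pow_mem _ (mem_zpowers _) _) x, mul_inv_cancel_right]
    calc x ^ (i + 1) * y * (x ^ (i + 1))⁻¹ = x * (x ^ i * y * (x ^ i)⁻¹) * x⁻¹ := by
          rw [pow_succ']; group
      _ = x * y * x⁻¹ * (x * (z ^ p ^ (k + 1)) ^ (s * i) * x⁻¹) := by rw [ih]; group
      _ = y * (z ^ p ^ (k + 1)) ^ (s * (i + 1)) := by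
          rw [he, h.conjy, Nat.mul_succ, pow_add, ← pow_mul, ← pow_mul, mul_assoc, ← pow_add, ← pow_add]
          ring_nf

theorem mem_zpowers_e {w : P} (hwc : w ∈ center P) (hwp : w ^ p = 1) :
    w ∈ zpowers (z ^ p ^ (k + 1)) := by
  obtain ⟨c, hc, i, rfl⟩ := h.exists_decomp w
  have hp := (Fact.out : p.Prime)
  have hcy : Commute c y := h.commute_C hc (subset_closure (Set.mem_insert _ _))
  have hi : p ∣ i := by
    have h1 : c * x ^ i * y = y * (c * x ^ i) := (mem_center_iff.mp hwc y).symm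
    have h2 : x ^ i * y * (x ^ i)⁻¹ = y := by
      rw [mul_inv_eq_iff_eq_mul]
      exact mul_left_cancel (a := c) (by rw [← mul_assoc, h1, ← mul_assoc, ← hcy.eq, mul_assoc])
    rw [h.conj_y_pow, mul_eq_left, RankTwoClass.pow_eq_one_iff_dvd h.e_pow h.e_ne] at h2
    exact (hp.dvd_mul.mp h2).resolve_left h.hs
  rw [RankTwoClass.pow_choose_eq_one h.xp hi, mul_one] at hwc hwp ⊢
  obtain ⟨a, b, rfl⟩ := h.mem_C hc
  have hb : ((p ^ (k + 1) : ℕ) : ℤ) ∣ b := by
    have h1 : z ^ (b * p) = 1 := by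
      rw [(h.yz.zpow_zpow a b).mul_pow, ← zpow_natCast (y ^ a), ← zpow_mul, mul_comm a, zpow_mul,
        zpow_natCast, h.yp, one_zpow, one_mul, ← zpow_natCast (z ^ b), ← zpow_mul] at hwp
      exact hwp
    rw [← orderOf_dvd_iff_zpow_eq_one, h.zord, pow_succ p (k + 1), Nat.cast_mul] at h1
    exact Int.dvd_of_mul_dvd_mul_right (Nat.cast_ne_zero.mpr hp.ne_zero) h1
  have hzb : z ^ b ∈ zpowers (z ^ p ^ (k + 1)) := by
    obtain ⟨b', rfl⟩ := hb
    exact mem_zpowers_iff.mpr ⟨b', by rw [← zpow_natCast, ← zpow_mul]⟩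
  have hytb : (y ^ t) ^ b = 1 := by
    obtain ⟨b', rfl⟩ := hb
    rw [← zpow_natCast y t, ← zpow_mul, show (t : ℤ) * (((p ^ (k + 1) : ℕ) : ℤ) * b') =
      (p : ℤ) * ((t : ℤ) * ((p ^ k : ℕ) : ℤ) * b') by push_cast; ring, zpow_mul, zpow_natCast, h.yp,
      one_zpow]
  have h2 := h.conj_form a b
  rw [mem_center_iff.mp hwc x, mul_inv_cancel_right, mul_inv_cancel, hytb, mul_one,
    eq_comm, ← orderOf_dvd_iff_zpow_eq_one, orderOf_eq_prime h.e_pow h.e_ne] at h2
  have ha : (p : ℤ) ∣ a := ((Nat.prime_iff_prime_int.mp hp).dvd_mul.mp h2).resolve_left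
    fun h' => h.hs (Int.natCast_dvd_natCast.mp h')
  obtain ⟨a', rfl⟩ := ha
  rw [zpow_mul, zpow_natCast, h.yp, one_zpow, one_mul]
  exact hzb

theorem exists_pow_zp (u : P) :
    ∃ b : ℤ, ∃ r ∈ zpowers (z ^ p ^ 2), u ^ p = (z ^ p) ^ b * r := by
  obtain ⟨c, hc, i, -, hu⟩ := h.pow_congr u
  obtain ⟨a, b, rfl⟩ := h.mem_C hc
  refine ⟨b, _, hu, ?_⟩
  have h1 : (y ^ a * z ^ b) ^ p = (z ^ p) ^ b := by
    rw [(h.yz.zpow_zpow a b).mul_pow, ← zpow_natCast (y ^ a), ← zpow_mul, mul_comm a, zpow_mul,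
      zpow_natCast, h.yp, one_zpow, one_mul, ← zpow_natCast, ← zpow_mul, mul_comm, zpow_mul,
      zpow_natCast]
  rw [h1, mul_inv_cancel_left]

theorem T_central : zpowers (z ^ p ^ 2) ≤ center P := by
  rw [zpowers_le, pow_two, pow_mul]
  exact Subgroup.pow_mem _ h.zpow_p_central _

theorem T_normal : (zpowers (z ^ p ^ 2)).Normal :=
  ⟨fun g hg a => by rw [mem_center_iff.mp (h.T_central hg) a, mul_inv_cancel_right]; exact hg⟩

theorem exists_psi [(zpowers (z ^ p ^ 2)).Normal] :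
    ∃ ψ : P →* P ⧸ zpowers (z ^ p ^ 2), ∀ u, ψ u = QuotientGroup.mk (u ^ p) := by
  refine ⟨MonoidHom.mk' (fun u => QuotientGroup.mk' (zpowers (z ^ p ^ 2)) (u ^ p)) fun u v => ?_,
    fun u => rfl⟩
  have hval : ∀ c ∈ closure ({y, z} : Set P), ∀ i : ℕ,
      QuotientGroup.mk' (zpowers (z ^ p ^ 2)) ((c * x ^ i) ^ p) =
        QuotientGroup.mk' (zpowers (z ^ p ^ 2)) (c ^ p) := by
    intro c hc i
    obtain ⟨c', hc', i', he, hu⟩ := h.pow_congr (c * x ^ i)
    have hq : QuotientGroup.mk' (zpowers (z ^ p ^ 2)) (c' ^ p) =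
        QuotientGroup.mk' (zpowers (z ^ p ^ 2)) ((c * x ^ i) ^ p) := QuotientGroup.eq.mpr hu
    rw [← hq]
    congr 1
    have hdiff : c⁻¹ * c' = x ^ i * (x ^ i')⁻¹ := by
      calc c⁻¹ * c' = c⁻¹ * (c' * x ^ i') * (x ^ i')⁻¹ := by group
        _ = x ^ i * (x ^ i')⁻¹ := by rw [← he]; group
    have hcm : c⁻¹ * c' ∈ closure ({y, z} : Set P) := mul_mem (inv_mem hc) hc'
    have h1 : (c⁻¹ * c') ^ p = 1 := by
      rw [hdiff, (((Commute.refl x).pow_pow i i').inv_right).mul_pow, inv_pow, ← pow_mul, ← pow_mul,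
        mul_comm i, mul_comm i', pow_mul, pow_mul, h.xp, one_pow, one_pow, inv_one, one_mul]
    rw [(h.commute_C (inv_mem hc) hc').mul_pow, inv_pow, inv_mul_eq_one] at h1
    exact h1.symm
  obtain ⟨c, hc, i, rfl⟩ := h.exists_decomp u
  obtain ⟨c', hc', j, rfl⟩ := h.exists_decomp v
  have hd := (h.comm_pow i).1 c' hc'
  have hdC := h.D_le hd
  have e : c * x ^ i * (c' * x ^ j) = (c * ((x ^ i * c' * (x ^ i)⁻¹ * c'⁻¹) * c')) * x ^ (i + j) := by
    rw [pow_add]; group
  show QuotientGroup.mk' (zpowers (z ^ p ^ 2)) _ = _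
  rw [e, hval _ (mul_mem hc (mul_mem hdC hc')) _, hval _ hc, hval _ hc',
    (h.commute_C hc (mul_mem hdC hc')).mul_pow, (h.commute_C hdC hc').mul_pow, h.D_pow hd, one_mul,
    map_mul]

theorem zp_not_mem_T : z ^ p ∉ zpowers (z ^ p ^ 2) := by
  intro hm
  obtain ⟨m, hm⟩ := mem_zpowers_iff.mp hm
  have h1 : z ^ (((p ^ 2 : ℕ) : ℤ) * m - p) = 1 := by
    rw [zpow_sub, zpow_mul, zpow_natCast, zpow_natCast, hm, mul_inv_cancel]
  rw [← orderOf_dvd_iff_zpow_eq_one, h.zord] at h1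
  have h2 : ((p ^ 2 : ℕ) : ℤ) ∣ ((p ^ (k + 2) : ℕ) : ℤ) :=
    Int.natCast_dvd_natCast.mpr (pow_dvd_pow p (Nat.le_add_left 2 k))
  have h3 : ((p ^ 2 : ℕ) : ℤ) ∣ (p : ℤ) :=
    (dvd_sub_right (dvd_mul_right _ m)).mp (h2.trans h1)
  have h4 := Nat.le_of_dvd (Fact.out : p.Prime).pos (Int.natCast_dvd_natCast.mp h3)
  nlinarith [(Fact.out : p.Prime).two_le]

/-- The flag of a shape: the image of `z ^ p`. -/
theorem flag {w : P} (hwc : w ∈ center P) (hwo : orderOf w = p) : HasFixedFlag p w := by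
  have := h.T_normal
  obtain ⟨ψ, hψ⟩ := h.exists_psi
  have hp := (Fact.out : p.Prime)
  set T := zpowers (z ^ p ^ 2) with hT
  have hrange : ∀ u, ∃ b : ℤ, ψ u = QuotientGroup.mk' T (z ^ p) ^ b := by
    intro u
    obtain ⟨b, r, hr, he⟩ := h.exists_pow_zp u
    refine ⟨b, ?_⟩
    rw [hψ, he]
    show QuotientGroup.mk' T ((z ^ p) ^ b * r) = _
    rw [map_mul, map_zpow, show QuotientGroup.mk' T r = 1 from (QuotientGroup.eq_one_iff r).mpr hr,
      mul_one]
  have hzpexp : QuotientGroup.mk' T (z ^ p) ^ p = 1 := by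
    rw [← map_pow, ← pow_mul, ← pow_two]
    exact (QuotientGroup.eq_one_iff _).mpr (mem_zpowers _)
  refine hasFixedFlag_of_hom ψ (QuotientGroup.mk' T (z ^ p))
    (fun he => h.zp_not_mem_T ((QuotientGroup.eq_one_iff _).mp he)) ⟨z, hψ z⟩ (fun u => ?_)
    (fun u v => ?_) (fun α hα u _ => ?_)
  · obtain ⟨b, hb⟩ := hrange u
    rw [hb, ← zpow_natCast (QuotientGroup.mk' T (z ^ p) ^ b) p, ← zpow_mul, mul_comm, zpow_mul,
      zpow_natCast, hzpexp, one_zpow]
  · obtain ⟨b, hb⟩ := hrange u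
    obtain ⟨b', hb'⟩ := hrange v
    rw [hb, hb']
    exact Commute.zpow_zpow_self _ _ _
  · obtain ⟨bz, rz, hrz, hez⟩ := h.exists_pow_zp (α z)
    obtain ⟨m, hm⟩ := mem_zpowers_iff.mp hrz
    set q : ℤ := bz + (p : ℤ) * m with hq
    have hαz : α (z ^ p) = (z ^ p) ^ q := by
      rw [map_pow, hez, ← hm, hq, zpow_add]
      congr 1
      rw [pow_two, pow_mul, ← zpow_natCast (z ^ p), ← zpow_mul]
    have hq1 : (p : ℤ) ∣ q - 1 := by
      obtain ⟨l, hl⟩ := mem_zpowers_iff.mp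
        (h.mem_zpowers_e hwc (hwo ▸ pow_orderOf_eq_one w))
      have hE : z ^ p ^ (k + 1) = (z ^ p) ^ p ^ k := by rw [pow_succ', pow_mul]
      have h1 : α (z ^ p ^ (k + 1)) = (z ^ p ^ (k + 1)) ^ q := by
        rw [hE, map_pow, hαz, ← zpow_natCast, ← zpow_mul, mul_comm, zpow_mul, zpow_natCast]
      rw [← hl, map_zpow, h1, ← zpow_mul] at hα
      have h2 : (z ^ p ^ (k + 1)) ^ ((q - 1) * l) = 1 := by
        rw [sub_mul, one_mul, zpow_sub, hα, mul_inv_cancel]
      rw [← orderOf_dvd_iff_zpow_eq_one, orderOf_eq_prime h.e_pow h.e_ne] at h2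
      refine ((Nat.prime_iff_prime_int.mp hp).dvd_mul.mp h2).resolve_right fun hd => ?_
      obtain ⟨l', rfl⟩ := hd
      rw [zpow_mul, zpow_natCast, h.e_pow, one_zpow] at hl
      rw [← hl, orderOf_one] at hwo
      exact hp.one_lt.ne hwo
    have hfix : QuotientGroup.mk' T (α (z ^ p)) = QuotientGroup.mk' T (z ^ p) := by
      obtain ⟨c, hc⟩ := hq1
      rw [hαz, map_zpow, show q = (p : ℤ) * c + 1 by omega, zpow_add, zpow_mul, zpow_natCast, hzpexp,
        one_zpow, one_mul, zpow_one]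
    have hT_inv : ∀ g ∈ T, α g ∈ T := by
      intro g hg
      obtain ⟨m, rfl⟩ := mem_zpowers_iff.mp hg
      refine mem_zpowers_iff.mpr ⟨q * m, ?_⟩
      rw [show z ^ p ^ 2 = (z ^ p) ^ p by rw [← pow_mul, ← pow_two], map_zpow, map_pow, hαz,
        ← zpow_natCast ((z ^ p) ^ q) p, ← zpow_natCast (z ^ p) p, ← zpow_mul, ← zpow_mul, ← zpow_mul]
      congr 1
      ring
    obtain ⟨b, r, hr, he⟩ := h.exists_pow_zp u
    rw [hψ, hψ, ← map_pow, he, map_mul]
    show QuotientGroup.mk' T (α ((z ^ p) ^ b) * α r) = QuotientGroup.mk' T ((z ^ p) ^ b * r)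
    rw [map_mul, map_mul, show QuotientGroup.mk' T (α r) = 1 from
      (QuotientGroup.eq_one_iff _).mpr (hT_inv r hr), show QuotientGroup.mk' T r = 1 from
      (QuotientGroup.eq_one_iff _).mpr hr, map_zpow, map_zpow, hfix, ← map_zpow]

theorem not_onto_wreath :
    ¬ ∃ f : P →* Fusion.Yoshida.C p ≀ᵣ Fusion.Yoshida.C p, Function.Surjective f := by
  have := h.T_normal
  obtain ⟨ψ, hψ⟩ := h.exists_psi
  refine IsolatedRankTwo.not_onto_wreath fun f u v => ?_
  have h1 := map_mul ψ u v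
  rw [hψ, hψ, hψ, ← QuotientGroup.mk_mul] at h1
  obtain ⟨m, hm⟩ := mem_zpowers_iff.mp (QuotientGroup.eq.mp h1.symm)
  have h2 : f ((u ^ p * v ^ p)⁻¹ * (u * v) ^ p) = 1 := by
    rw [← hm, map_zpow, map_pow, wreath_pow_sq, one_zpow]
  rw [map_mul, map_inv, inv_mul_eq_one, map_mul] at h2
  exact h2.symm

end Shape

/-- The order of `z` in a generating triple as in Blackburn's families. -/
theorem orderOf_of_gen {x y z : P} {k : ℕ} (hgen : closure ({x, y, z} : Set P) = ⊤)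
    (hcard : Nat.card P = p ^ (k + 4)) (hx : x ^ p = 1) (hy : y ^ p = 1) (hz : z ^ p ^ (k + 2) = 1)
    (hyz : Commute y z) (hn : x ∈ normalizer ((closure ({y, z} : Set P)) : Set P)) :
    orderOf z = p ^ (k + 2) := by
  have hp := (Fact.out : p.Prime)
  obtain ⟨j, hj, hjo⟩ := (Nat.dvd_prime_pow hp).mp (orderOf_dvd_of_pow_eq_one hz)
  rw [hjo]
  congr 1
  by_contra hne
  have hmul : ∀ (A : Subgroup P) (g : P), g ∈ normalizer (A : Set P) →
      Nat.card ↥(A ⊔ zpowers g) ≤ Nat.card A * orderOf g := by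
    intro A g hg
    classical
    have hcoe := coe_mul_of_right_le_normalizer_left A (zpowers g) (zpowers_le.mpr hg)
    rw [← Nat.card_zpowers g, ← Nat.card_prod]
    refine Nat.card_le_card_of_surjective
      (fun q : A × zpowers g => (⟨(q.1 : P) * q.2,
        mul_mem (mem_sup_left q.1.2) (mem_sup_right q.2.2)⟩ : ↥(A ⊔ zpowers g))) ?_
    rintro ⟨w, hw⟩
    rw [← SetLike.mem_coe, hcoe, Set.mem_mul] at hw
    obtain ⟨a, ha, b, hb, rfl⟩ := hw
    exact ⟨(⟨a, ha⟩, ⟨b, hb⟩), rfl⟩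
  have hz' : z ∈ normalizer (zpowers y : Set P) := centralizer_le_normalizer _ (by
    refine mem_centralizer_iff.mpr fun g hg => ?_
    obtain ⟨m, rfl⟩ := mem_zpowers_iff.mp hg
    exact (hyz.zpow_left m).eq)
  have hC : Nat.card ↥(closure ({y, z} : Set P)) ≤ p * p ^ j := by
    have h1 := hmul (zpowers y) z hz'
    rw [Nat.card_zpowers, hjo] at h1
    have h2 : closure ({y, z} : Set P) = zpowers y ⊔ zpowers z := by
      rw [Set.insert_eq, Subgroup.closure_union, zpowers_eq_closure, zpowers_eq_closure]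
    rw [h2]
    exact h1.trans (Nat.mul_le_mul_right _ (Nat.le_of_dvd hp.pos (orderOf_dvd_of_pow_eq_one hy)))
  have hP : Nat.card P ≤ p * p ^ j * p := by
    have h1 := hmul (closure ({y, z} : Set P)) x hn
    have h2 : closure ({y, z} : Set P) ⊔ zpowers x = ⊤ := by
      rw [zpowers_eq_closure, ← Subgroup.closure_union, ← hgen]
      congr 1
      ext w
      simp [or_comm]
    rw [h2, Subgroup.card_top] at h1
    exact h1.trans (Nat.mul_le_mul hC (Nat.le_of_dvd hp.pos (orderOf_dvd_of_pow_eq_one hx)))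
  rw [hcard, ← pow_succ', ← pow_succ] at hP
  have := (Nat.pow_le_pow_iff_right hp.one_lt).mp hP
  omega

theorem orderOf_of_data {x y z : P} {k s t : ℕ} (hcard : Nat.card P = p ^ (k + 4))
    (hgen : closure ({x, y, z} : Set P) = ⊤) (hx : x ^ p = 1) (hy : y ^ p = 1)
    (hz : z ^ p ^ (k + 2) = 1) (hyz : y * z = z * y)
    (h1 : x⁻¹ * y * x = y * z ^ (s * p ^ (k + 1))) (h2 : x⁻¹ * z * x = y ^ t * z) :
    orderOf z = p ^ (k + 2) := by
  have hgen' : closure ({x⁻¹, y, z} : Set P) = ⊤ := by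
    rw [eq_top_iff, ← hgen]
    refine (closure_le _).mpr ?_
    rintro g (rfl | rfl | rfl)
    · exact inv_mem_iff.mp (subset_closure (Set.mem_insert g⁻¹ _))
    · exact subset_closure (Set.mem_insert_of_mem _ (Set.mem_insert _ _))
    · exact subset_closure (Set.mem_insert_of_mem _ (Set.mem_insert_of_mem _ rfl))
  refine orderOf_of_gen hgen' hcard (by rw [inv_pow, hx, inv_one]) hy hz hyz ?_
  have hgenmem : ∀ g ∈ ({y, z} : Set P), x⁻¹ * g * x⁻¹⁻¹ ∈ closure ({y, z} : Set P) := by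
    have hyC : y ∈ closure ({y, z} : Set P) := subset_closure (Set.mem_insert y _)
    have hzC : z ∈ closure ({y, z} : Set P) :=
      subset_closure (Set.mem_insert_of_mem y (Set.mem_singleton z))
    rintro g (rfl | rfl) <;> rw [inv_inv]
    · rw [h1]; exact mul_mem hyC (Subgroup.pow_mem _ hzC _)
    · rw [h2]; exact mul_mem (Subgroup.pow_mem _ hyC _) hzC
  have hle : (closure ({y, z} : Set P)).map (MulAut.conj x⁻¹).toMonoidHom ≤ closure ({y, z} : Set P) := by
    rw [MonoidHom.map_closure, closure_le]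
    rintro _ ⟨g, hg, rfl⟩
    exact hgenmem g hg
  exact mem_normalizer_fintype fun n hn => hle ⟨n, hn, rfl⟩

theorem shape_of_data (hp2 : p ≠ 2) {x y z : P} {k s t : ℕ} (hcard : Nat.card P = p ^ (k + 4))
    (hgen : closure ({x, y, z} : Set P) = ⊤) (hx : x ^ p = 1) (hy : y ^ p = 1)
    (hz : z ^ p ^ (k + 2) = 1) (hyz : y * z = z * y) (hs : ¬ p ∣ s)
    (h1 : x⁻¹ * y * x = y * z ^ (s * p ^ (k + 1))) (h2 : x⁻¹ * z * x = y ^ t * z)
    (hgood : 3 < p ∨ 1 ≤ k ∨ t = 0) : Shape p k x⁻¹ y z s t := by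
  have hgen' : closure ({x⁻¹, y, z} : Set P) = ⊤ := by
    rw [eq_top_iff, ← hgen]
    refine (closure_le _).mpr ?_
    rintro g (rfl | rfl | rfl)
    · exact inv_mem_iff.mp (subset_closure (Set.mem_insert g⁻¹ _))
    · exact subset_closure (Set.mem_insert_of_mem _ (Set.mem_insert _ _))
    · exact subset_closure (Set.mem_insert_of_mem _ (Set.mem_insert_of_mem _ rfl))
  exact ⟨hgen', by rw [inv_pow, hx, inv_one], hy, orderOf_of_data hcard hgen hx hy hz hyz h1 h2, hyz,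
    by rw [inv_inv]; exact h1, by rw [inv_inv]; exact h2, hs, hp2, hgood⟩

end Cfsg.Agent.IsolatedRankTwo
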