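import Cfsg.Agent.Lib.IsolatedRankTwo.ThreeFusion
import Cfsg.Agent.Lib.RankTwoClass.Main
import Cfsg.Agent.Lib.PGroup.SymplecticType

/-!
# Sylow subgroups of perfect groups of rank two with an element fixed by fusion

* `Fixed.sylow_shape`: extraspecial of order `p³` and exponent `p`, or `p = 3` and of maximal class and
  odd exponent at least five.
-/

set_option autoImplicit false
set_option linter.unusedSectionVars false

namespace Cfsg.Agent.IsolatedRankTwo

open Subgroup Cfsg
open scoped commutatorElement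

universe u

theorem isExtraspecial_of_exponent {P : Type u} [Group P] [Finite P] {p : ℕ} [Fact p.Prime]
    (hcard : Nat.card P = p ^ 3) (hexp : ∀ a : P, a ^ p = 1) (hr : Cfsg.PRankLE p 2 P) :
    Cfsg.IsExtraspecial p P := by
  have hp : p.Prime := Fact.out
  have hP : IsPGroup p P := IsPGroup.of_card hcard
  have hna : center P ≠ ⊤ := by
    intro he
    have h1 := hr (center P) inferInstance fun a _ => hexp a
    rw [he, card_top, hcard, Nat.pow_le_pow_iff_right hp.one_lt] at h1
    omega
  obtain ⟨i, hi⟩ := IsPGroup.iff_card.mp (hP.to_subgroup (center P))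
  have hmul := (center P).card_mul_index
  rw [hcard, hi] at hmul
  have hi1 : i = 1 := by
    have h0 : i ≠ 0 := by
      rintro rfl
      have : Nontrivial P := Finite.one_lt_card_iff_nontrivial.mp (by
        rw [hcard]; exact Nat.one_lt_pow (by norm_num) hp.one_lt)
      have := hP.center_nontrivial
      have := Finite.one_lt_card (α := ↥(center P))
      rw [hi, pow_zero] at this
      omega
    by_contra h1
    obtain ⟨j, -, hj⟩ := (Nat.dvd_prime_pow hp).mp (Dvd.intro_left _ hmul)
    rw [hj, ← pow_add] at hmul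
    have hij := Nat.pow_right_injective hp.two_le hmul
    have hcyc : IsCyclic (P ⧸ center P) := by
      rcases Nat.lt_or_ge j 1 with h2 | h2
      · exfalso
        refine hna (index_eq_one.mp ?_)
        rw [hj, show j = 0 by omega, pow_zero]
      · refine isCyclic_of_prime_card (p := p) ?_
        rw [← index_eq_card, hj, show j = 1 by omega, pow_one]
    refine hna (eq_top_iff.mpr fun a _ => mem_center_iff.mpr fun b => ?_)
    exact commutative_of_cyclic_center_quotient (QuotientGroup.mk' (center P))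
      (QuotientGroup.ker_mk' _).le b a
  subst hi1
  have hidx : Nat.card (P ⧸ center P) = p ^ 2 := by
    rw [← index_eq_card]
    have : p ^ 1 * (center P).index = p ^ 1 * p ^ 2 := by rw [hmul]; ring
    exact Nat.eq_of_mul_eq_mul_left (pow_pos hp.pos 1) this
  refine PGroup.isExtraspecial_of hP (by rw [hi, pow_one]) hna (fun a b => ?_)
    (fun a => by rw [hexp a]; exact one_mem _)
  rw [← QuotientGroup.eq_one_iff, ← QuotientGroup.mk'_apply, map_commutatorElement]
  exact commutatorElement_eq_one_iff_mul_comm.mpr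
    ((IsPGroup.isMulCommutative_of_card_eq_prime_sq hidx).is_comm.comm _ _)

variable {L : Type u} [Group L] [Finite L] {p : ℕ} [Fact p.Prime] {S : Sylow p L} {y : L}

theorem Fixed.not_shape (h : Fixed S y) {k s t : ℕ} {a b c : ↥(S : Subgroup L)}
    (hS : Shape p k a b c s t) : False :=
  h.false_of_flag (hS.flag h.mem_center (by rw [Subgroup.orderOf_mk]; exact h.ord)) hS.not_onto_wreath

theorem Fixed.not_metacyclic (h : Fixed S y) (hm : Cfsg.IsMetacyclic ↥(S : Subgroup L)) : False :=
  h.false_of_flag (metacyclic_flag S.2 h.odd hm fun e => h.ne_one (congrArg Subtype.val e))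
    (metacyclic_not_onto_wreath S.2 h.odd hm)

/-- The possible Sylow subgroups. -/
theorem Fixed.sylow_shape (h : Fixed S y) :
    (Cfsg.IsExtraspecial p ↥(S : Subgroup L) ∧ Nat.card (S : Subgroup L) = p ^ 3 ∧
        ∀ a ∈ (S : Subgroup L), a ^ p = 1) ∨
      (p = 3 ∧ ∃ k : ℕ, 2 ≤ k ∧ Nat.card (S : Subgroup L) = 3 ^ (2 * k + 1) ∧
        ∃ _ : Group.IsNilpotent ↥(S : Subgroup L), Group.nilpotencyClass ↥(S : Subgroup L) = 2 * k) := by
  have hp : p.Prime := Fact.out
  have hP : IsPGroup p ↥(S : Subgroup L) := S.2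
  obtain ⟨n, hn⟩ := IsPGroup.iff_card.mp hP
  rcases Nat.lt_or_ge 3 n with hn4 | hn3
  swap
  · rcases small_cases hn hn3 with hm | ⟨rfl, hexp⟩
    · exact (h.not_metacyclic hm).elim
    · refine Or.inl ⟨isExtraspecial_of_exponent hn hexp h.rank, hn, fun a ha => ?_⟩
      exact congrArg Subtype.val (hexp ⟨a, ha⟩)
  right
  have hmax : ∀ _ : p = 3, (⊤ : Subgroup ↥(S : Subgroup L)).lowerCentralSeries (n - 2) ≠ ⊥ →
      (p = 3 ∧ ∃ k : ℕ, 2 ≤ k ∧ Nat.card (S : Subgroup L) = 3 ^ (2 * k + 1) ∧
        ∃ _ : Group.IsNilpotent ↥(S : Subgroup L), Group.nilpotencyClass ↥(S : Subgroup L) = 2 * k) := by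
    intro h3 hl
    subst h3
    rcases Nat.even_or_odd n with hev | ⟨k, rfl⟩
    · exact (h.false_of_max_three hn4 hev hn hl).elim
    · refine ⟨rfl, k, by omega, hn, hP.isNilpotent, ?_⟩
      rw [class_eq_of_lcs (by omega) hn hl]
      omega
  obtain ⟨k, rfl⟩ : ∃ k, n = k + 4 := ⟨n - 4, by omega⟩
  rcases RankTwoClass.classify h.odd hn h.rank with hm | h2 | h3 | ⟨h3, -, hl⟩
  · exact (h.not_metacyclic hm).elim
  · obtain ⟨-, a, b, c, hgen, ha, hb, hc, hac, hbc, hab⟩ := h2
    simp only [show k + 4 - 2 = k + 2 from rfl, show k + 4 - 3 = k + 1 from rfl] at hc hab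
    refine (h.not_shape (shape_of_data (s := 1) (t := 0) h.odd hn hgen ha hb hc hbc
      (fun hd => hp.not_dvd_one hd) (by rw [hab, one_mul]) ?_ (Or.inr (Or.inr rfl)))).elim
    rw [pow_zero, one_mul, mul_assoc, ← hac, inv_mul_cancel_left]
  · obtain ⟨-, s, a, b, c, hs, hgen, ha, hb, hc, hbc, hab, hac⟩ := h3
    simp only [show k + 4 - 2 = k + 2 from rfl, show k + 4 - 3 = k + 1 from rfl] at hc hab
    have hs' : ¬ p ∣ s := by
      intro hd
      rcases hs with rfl | hs
      · exact hp.not_dvd_one hd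
      · rw [(CharP.cast_eq_zero_iff (ZMod p) p s).mpr hd] at hs
        exact hs IsSquare.zero
    by_cases hg : 3 < p ∨ 1 ≤ k
    · exact (h.not_shape (shape_of_data (t := 1) h.odd hn hgen ha hb hc hbc hs' hab
        (by rw [pow_one]; exact hac) (hg.elim Or.inl fun hk => Or.inr (Or.inl hk)))).elim
    push Not at hg
    have hk : k = 0 := by omega
    subst hk
    have h3 : p = 3 := le_antisymm hg.1 (by
      have := hp.two_le
      have := h.odd
      omega)
    refine hmax h3 ?_
    have hoc := orderOf_of_data (t := 1) hn hgen ha hb hc hbc hab (by rw [pow_one]; exact hac)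
    have hb1 : b ∈ (⊤ : Subgroup ↥(S : Subgroup L)).lowerCentralSeries 1 := by
      rw [Subgroup.top_lowerCentralSeries_one]
      have e : ⁅a⁻¹, c⁆ = b := by
        rw [commutatorElement_def, inv_inv, hac, mul_inv_cancel_right]
      exact e ▸ commutator_mem_commutator (mem_top _) (mem_top _)
    have hc2 : c ^ (s * p ^ (0 + 1)) ∈ (⊤ : Subgroup ↥(S : Subgroup L)).lowerCentralSeries (1 + 1) := by
      rw [Subgroup.lowerCentralSeries_succ]
      have e : ⁅b⁻¹, a⁻¹⁆ = c ^ (s * p ^ (0 + 1)) := by
        rw [commutatorElement_def, inv_inv, inv_inv, mul_assoc b⁻¹, mul_assoc, hab, inv_mul_cancel_left]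
      exact e ▸ commutator_mem_commutator (inv_mem hb1) (mem_top _)
    intro he
    have h1 : c ^ (s * p ^ (0 + 1)) = 1 := mem_bot.mp (he ▸ hc2)
    have hd := orderOf_dvd_of_pow_eq_one h1
    rw [hoc, pow_succ, zero_add, pow_one, mul_comm s] at hd
    exact hs' (Nat.dvd_of_mul_dvd_mul_left hp.pos hd)
  · exact hmax h3 hl

end Cfsg.Agent.IsolatedRankTwo
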