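import Cfsg.Agent.Lib.IsolatedRankTwo.Pearl

/-!
# No perfect group has a 3-group of maximal class, rank two and even exponent with a fixed centre

* `extend_inversion`: an inversion on an essential subgroup extends to the Sylow subgroup.
* `exists_theta`: a nontrivial invariant homomorphism killing what such extensions invert.
* `Fixed.false_of_max_three`.
-/

set_option autoImplicit false
set_option linter.unusedSectionVars false
set_option linter.deprecated false

namespace Cfsg.Agent.IsolatedRankTwo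

open Subgroup Cfsg Cfsg.FusionSystem Cfsg.Agent.Fusion
open scoped commutatorElement

universe u

local instance : Fact (Nat.Prime 3) := ⟨Nat.prime_three⟩

variable {L : Type u} [Group L] [Finite L] {S : Sylow 3 L} {y : L}
  {E : Subgroup ↥(S : Subgroup L)} {n : ℕ}

theorem card_normalizerIn_le (h : Fixed S y) (hE : Frame E n) {Q : Subgroup L}
    (hQ : Q ≤ (S : Subgroup L)) (hy : y ∈ Q) {x : ↥Q} (hx3 : x ^ 3 = 1)
    (hx : inclusion hQ x ∉ centralizer (E : Set ↥(S : Subgroup L))) {i : ℕ} (hi : 3 ≤ i)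
    (hcard : Nat.card Q = 3 ^ i) :
    Nat.card (normalizerIn (S : Subgroup L) Q) ≤ 3 * Nat.card Q := by
  set N := normalizerIn (S : Subgroup L) Q with hN
  have hQN : Q ≤ N := le_inf hQ le_normalizer
  have hNS : N ≤ (S : Subgroup L) := inf_le_left
  obtain ⟨j, hj⟩ := IsPGroup.iff_card.mp (S.2.to_le hNS)
  rw [hj, hcard, ← pow_succ']
  refine Nat.pow_le_pow_right (by norm_num) ?_
  by_contra hji
  have hcls := (maxclass_of_mem h hE hNS (hQN hy) (x := inclusion hQN x)
    (by rw [← map_pow, hx3, map_one]) hx hj).2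
  have hn : (Q.subgroupOf N).Normal :=
    (normal_subgroupOf_iff_le_normalizer hQN).mpr inf_le_right
  have hidx : (Q.subgroupOf N).index = 3 ^ (j - i) := by
    have h1 := (Q.subgroupOf N).card_mul_index
    rw [Nat.card_congr (subgroupOfEquivOfLe hQN).toEquiv, hcard, hj,
      show (3 : ℕ) ^ j = 3 ^ i * 3 ^ (j - i) by rw [← pow_add]; congr 1; omega] at h1
    exact Nat.eq_of_mul_eq_mul_left (pow_pos (by norm_num) i) h1
  have heq := PGroup.normal_eq_lcs_of_maximal (by omega) hj hcls (Q.subgroupOf N) (by omega) hidx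
  have hxN : inclusion hQN x ∈ commutator ↥N := by
    rw [← Subgroup.top_lowerCentralSeries_one]
    refine Subgroup.lowerCentralSeries_antitone _ (show 1 ≤ j - i - 1 by omega) ?_
    rw [← heq]
    exact x.2
  refine hx (hE.commutator_le ?_)
  have h2 : inclusion hNS (inclusion hQN x) ∈ (commutator ↥N).map (inclusion hNS) :=
    mem_map_of_mem _ hxN
  rw [commutator_def, map_commutator] at h2
  exact commutator_mono le_top le_top h2

theorem map_fix (h : Fixed S y) {P : Subgroup L} {φ : P →* L}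
    (hφ : φ ∈ (groupFusionSystem (S : Subgroup L)).Hom P) (hy : y ∈ P) : φ ⟨y, hy⟩ = y := by
  obtain ⟨-, hmem, g, hg⟩ := mem_groupHom.1 hφ
  have h1 := hmem ⟨y, hy⟩
  rw [hg] at h1 ⊢
  exact h.fix g h1

/-- Subgroups above one of order 27 and exponent 3 have normalizers of index at most 3 over them. -/
theorem fullyNormalized_above (h : Fixed S y) (hE : Frame E n) {R R' : Subgroup L}
    (hP : PearlAt S y E R) (hRR' : R ≤ R') (hR' : R' ≤ (S : Subgroup L)) (hne : R' ≠ (S : Subgroup L)) :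
    (groupFusionSystem (S : Subgroup L)).IsFullyNormalized R' := by
  have hlow : 3 * Nat.card R' ≤ Nat.card (normalizerIn (S : Subgroup L) R') := by
    have h1 := card_lt_of_lt (S := (S : Subgroup L)) inf_le_left
      (lt_normalizerIn S.2 (lt_of_le_of_ne hR' hne))
    obtain ⟨a, ha⟩ := IsPGroup.iff_card.mp (S.2.to_le hR')
    obtain ⟨b, hb⟩ := IsPGroup.iff_card.mp
      (S.2.to_le (inf_le_left : normalizerIn (S : Subgroup L) R' ≤ (S : Subgroup L)))
    rw [ha, hb, Nat.pow_lt_pow_iff_right (by norm_num)] at h1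
    rw [ha, ← pow_succ']
    refine le_of_le_of_eq ?_ hb.symm
    exact Nat.pow_le_pow_right (by norm_num) h1
  refine ⟨hR', fun Q hQ => le_trans ?_ hlow⟩
  obtain ⟨φ, hφ, rfl⟩ := hQ
  rw [← card_range hφ]
  set R2 := (R.subgroupOf R').map φ with hR2
  have hR2le : R2 ≤ φ.range := by
    rintro _ ⟨a, -, rfl⟩
    exact ⟨a, rfl⟩
  have hinj := FusionSystem.injective_of_mem _ hφ
  have hP2 : PearlAt S y E R2 := by
    refine ⟨hR2le.trans (range_le hφ), ⟨⟨y, hRR' hP.mem⟩, hP.mem, map_fix h hφ _⟩, ?_, ?_⟩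
    · rw [hR2, Subgroup.card_map_of_injective hinj, Nat.card_congr (subgroupOfEquivOfLe hRR').toEquiv,
        hP.card]
    · rintro ⟨_, a, ha, rfl⟩
      refine Subtype.ext ?_
      show φ a ^ 3 = 1
      have ha' : (a : L) ∈ R := ha
      have := congrArg Subtype.val (hP.exp ⟨a, ha'⟩)
      rw [← map_pow, show a ^ 3 = 1 from Subtype.ext (by simpa using this), map_one]
  obtain ⟨x, hx⟩ := hP2.exists_outside h hE
  obtain ⟨i, hi⟩ := IsPGroup.iff_card.mp (S.2.to_le (range_le hφ))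
  have hi3 : 3 ≤ i := by
    have h1 := Subgroup.card_le_of_le hR2le
    rw [hi, hP2.card, Nat.pow_le_pow_iff_right (by norm_num)] at h1
    exact h1
  refine card_normalizerIn_le h hE (range_le hφ) ⟨⟨y, hRR' hP.mem⟩, map_fix h hφ _⟩
    (x := inclusion hR2le x) (by rw [← map_pow, hP2.exp x, map_one]) hx hi3 hi

theorem mem_autInducedBy_of_conj (h : Fixed S y) (hE : Frame E n) {R R' : Subgroup L}
    (hP : PearlAt S y E R) (hRR' : R ≤ R') (hR' : R' ≤ (S : Subgroup L)) (hne : R' ≠ (S : Subgroup L))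
    {δ : MulAut ↥R'} (hδA : δ ∈ (groupFusionSystem (S : Subgroup L)).autGroup R')
    (hδ : ∀ g (hg : g ∈ R), (δ ⟨g, hRR' hg⟩ : L) * g ∈ zpowers y)
    {α : MulAut ↥R'} (hα : α ∈ autInducedBy (S : Subgroup L) R') :
    δ * α * δ⁻¹ ∈ autInducedBy (S : Subgroup L) R' := by
  set F := groupFusionSystem (S : Subgroup L)
  have hαA : α ∈ F.autGroup R' := autInducedBy_le_autGroup F hR' hα
  obtain ⟨m, hm⟩ := IsPGroup.iff_card.mp (S.2.to_le hR')
  by_cases hm3 : m ≤ 3
  · have heq : R = R' := eq_of_le_of_card_ge hRR' (by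
      rw [hm, hP.card]; exact Nat.pow_le_pow_right (by norm_num) hm3)
    subst heq
    obtain ⟨hZ, -⟩ := hP.center_eq h hE
    set Z := center ↥R
    have hfix : ∀ β ∈ F.autGroup R, ∀ a ∈ Z, β a = a := by
      intro β hβ a ha
      rw [hZ] at ha
      obtain ⟨i, rfl⟩ := mem_zpowers_iff.mp ha
      rw [map_zpow, h.aut_fix hR' hP.mem hβ]
    let π := QuotientGroup.mk' Z
    have hresp : ∀ β ∈ F.autGroup R, ∀ a b, π a = π b → π (β a) = π (β b) := by
      intro β hβ a b hab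
      have h1 : a⁻¹ * b ∈ Z := QuotientGroup.eq.mp hab
      refine QuotientGroup.eq.mpr ?_
      rw [← map_inv, ← map_mul, hfix β hβ _ h1]
      exact h1
    have hδ' : ∀ g, π (δ g) = (π g)⁻¹ := by
      intro g
      have h1 : δ g * g ∈ Z := by
        rw [hZ]
        obtain ⟨i, hi⟩ := mem_zpowers_iff.mp (hδ g g.2)
        exact mem_zpowers_iff.mpr ⟨i, Subtype.ext (by simpa using hi)⟩
      exact eq_inv_of_mul_eq_one_left (by rw [← map_mul]; exact (QuotientGroup.eq_one_iff _).mpr h1)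
    have hδinv : ∀ g, π (δ⁻¹ g) = (π g)⁻¹ := fun g => by
      have := hδ' (δ⁻¹ g)
      rw [MulAut.apply_inv_self] at this
      exact inv_eq_iff_eq_inv.mp this.symm
    have hI : δ * α * δ⁻¹ * α⁻¹ ∈ Inn R := by
      have hmem : δ * α * δ⁻¹ * α⁻¹ ∈ F.autGroup R :=
        mul_mem (mul_mem (mul_mem hδA hαA) (inv_mem hδA)) (inv_mem hαA)
      refine hP.mem_inn h hE (h.aut_fix hR' hP.mem hmem) fun g => QuotientGroup.eq.mp ?_
      show π g = π ((δ * α * δ⁻¹ * α⁻¹) g)
      rw [MulAut.mul_apply, MulAut.mul_apply, MulAut.mul_apply, hδ']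
      have h1 : π (δ⁻¹ (α⁻¹ g)) = π ((α⁻¹ g)⁻¹) := by rw [hδinv, map_inv]
      rw [hresp α hαA _ _ h1, map_inv, MulAut.apply_inv_self, map_inv, inv_inv]
    have := mul_mem (inn_le_autInducedBy hR' hI) hα
    rwa [inv_mul_cancel_right] at this
  push Not at hm3
  obtain ⟨x, hx⟩ := hP.exists_outside h hE
  have hcls := (maxclass_of_mem h hE hR' (hRR' hP.mem) (x := inclusion hRR' x)
    (by rw [← map_pow, hP.exp x, map_one]) hx hm).2
  have hrk : Cfsg.PRankLE 3 2 ↥R' := by
    intro A hA hA3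
    have := h.rank (A.map (inclusion hR')) (by
      have := hA
      infer_instance) (by
      rintro _ ⟨a, ha, rfl⟩
      rw [← map_pow, hA3 a ha, map_one])
    rwa [Subgroup.card_map_of_injective (inclusion_injective hR')] at this
  obtain ⟨E', hE'⟩ := exists_frame hm3 hm (PGroup.lcs_ne_bot_of_maximal (by omega) hm hcls) hrk
  obtain ⟨f, h0, htop, hmono, hcard, hinv⟩ := frame_chain hE'
  have hfn := fullyNormalized_above h hE hP hRR' hR' hne
  set A := F.autGroup R' with hA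
  obtain ⟨-, R0, hR0⟩ := isFullyAutomized_of_fullyNormalized S.2 h.saturated hfn
  set T := SmallEss.chainStab A f m (fun i hi β _ => hinv i hi β)
  have hfin : Finite (MulAut ↥R') :=
    Finite.of_injective (fun b : MulAut ↥R' => (b : ↥R' → ↥R')) DFunLike.coe_injective
  have hT : IsPGroup 3 T := by
    rintro ⟨β, hβ⟩
    obtain ⟨k, l, hl, hk⟩ := Nat.exists_eq_pow_mul_and_not_dvd (orderOf_pos β).ne' 3 (by norm_num)
    refine ⟨k, Subtype.ext ?_⟩
    refine SmallEss.eq_one_of_coprime h0 htop (m := l) ?_ ?_ (T.pow_mem hβ (3 ^ k)).2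
    · show (β ^ 3 ^ k) ^ l = 1
      rw [← pow_mul, ← hk, pow_orderOf_eq_one]
    · rw [hm]
      exact (Nat.coprime_comm.mp (Nat.prime_three.coprime_iff_not_dvd.mpr hl)).pow_right m
  have hle : ∀ β ∈ autInducedBy (S : Subgroup L) R', β ∈ T := by
    intro β hβ
    have hβA : β ∈ A := autInducedBy_le_autGroup F hR' hβ
    obtain ⟨k, hk⟩ := R0.2 ⟨⟨β, hβA⟩, by rw [hR0]; exact hβ⟩
    have hk' : β ^ 3 ^ k = 1 := congrArg (fun q : ↥(R0 : Subgroup A) => ((q : A) : MulAut ↥R')) hk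
    exact ⟨hβA, fun i hi a ha => SmallEss.apply_inv_mul_mem (hmono i hi) (hcard i hi) hk'
      (hinv i hi.le β) (hinv (i + 1) hi β) ha⟩
  have hTeq : T.subgroupOf A = (R0 : Subgroup A) :=
    R0.is_maximal' (hT.of_equiv (subgroupOfEquivOfLe fun β (hβ : β ∈ T) => hβ.1).symm) (fun β hβ => by
      rw [hR0] at hβ
      exact hle _ hβ)
  have hconj : δ * α * δ⁻¹ ∈ T := SmallEss.chainStab_conj _ hδA (hle α hα)
  have hconjA : δ * α * δ⁻¹ ∈ A := hconj.1
  have h1 : (⟨δ * α * δ⁻¹, hconjA⟩ : A) ∈ T.subgroupOf A := hconj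
  rw [hTeq, hR0] at h1
  exact h1

/-- An inversion of an essential subgroup modulo its centre extends to the Sylow subgroup. -/
theorem extend_inversion (h : Fixed S y) (hE : Frame E n) {R : Subgroup L} (hP : PearlAt S y E R) :
    ∀ (c : ℕ) (R' : Subgroup L), Nat.card (S : Subgroup L) ≤ Nat.card R' + c →
      ∀ (hRR' : R ≤ R'), R' ≤ (S : Subgroup L) →
      ∀ δ ∈ (groupFusionSystem (S : Subgroup L)).autGroup R',
      (∀ g (hg : g ∈ R), (δ ⟨g, hRR' hg⟩ : L) * g ∈ zpowers y) →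
      ∃ φ ∈ (groupFusionSystem (S : Subgroup L)).autGroup (S : Subgroup L),
        ∀ g (hg : g ∈ R), (φ ⟨g, hP.le hg⟩ : L) * g ∈ zpowers y := by
  intro c
  induction c using Nat.strong_induction_on with
  | _ c ih =>
    intro R' hc hRR' hR' δ hδA hδ
    by_cases hne : R' = (S : Subgroup L)
    · subst hne
      exact ⟨δ, hδA, hδ⟩
    set F := groupFusionSystem (S : Subgroup L)
    set N := normalizerIn (S : Subgroup L) R' with hN
    have hφ : R'.subtype.comp δ.toMonoidHom ∈ F.Hom R' := (mem_autGroup_iff hR').1 hδA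
    have hrange : (R'.subtype.comp δ.toMonoidHom).range = R' := by
      ext a
      refine ⟨?_, fun ha => ⟨δ.symm ⟨a, ha⟩, by simp⟩⟩
      rintro ⟨b, rfl⟩
      exact (δ b).2
    obtain ⟨ψ, hψ, hψe⟩ := (isReceptive_of_fullyNormalized S.2 h.saturated
      (fullyNormalized_above h hE hP hRR' hR' hne)).2 R' _ hφ hrange
    have hNext : N ≤ extender (S : Subgroup L) R' (R'.subtype.comp δ.toMonoidHom) := by
      intro g hg
      refine subset_closure ⟨hg.1, hg.2, ?_⟩
      let cg : MulAut ↥R' := R'.normalizerMonoidHom ⟨g, hg.2⟩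
      have hcg : cg ∈ autInducedBy (S : Subgroup L) R' :=
        mem_autInducedBy_iff.2 ⟨g, hg.1, fun a => rfl⟩
      obtain ⟨g', hg', hval⟩ := mem_autInducedBy_iff.1
        (mem_autInducedBy_of_conj h hE hP hRR' hR' hne hδA hδ hcg)
      refine ⟨g', hg', fun a ha => ?_⟩
      show ((δ ⟨g * a * g⁻¹, ha⟩ : ↥R') : L) = g' * (δ a : L) * g'⁻¹
      rw [← hval (δ a), MulAut.mul_apply, MulAut.mul_apply, MulAut.inv_apply_self]
      rfl
    have hR'N : R' ≤ N := le_inf hR' le_normalizer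
    have hψN := restrict_mem hψ hNext
    have hrngN : (ψ.comp (inclusion hNext)).range = N := by
      refine eq_of_le_of_card_ge ?_ (card_range hψN).ge
      rintro _ ⟨g, rfl⟩
      refine ⟨apply_mem hψN g, ?_⟩
      refine mem_normalizer_fintype fun a ha => ?_
      have hb : δ (δ.symm ⟨a, ha⟩) = (⟨a, ha⟩ : ↥R') := δ.apply_symm_apply _
      set b := δ.symm ⟨a, ha⟩
      have hgb : (g : L) * b * (g : L)⁻¹ ∈ R' := (mem_normalizer_iff.mp g.2.2 b).mp b.2
      have e1 : ψ (inclusion hNext ⟨(b : L), hR'N b.2⟩) = a := by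
        rw [show ψ (inclusion hNext ⟨(b : L), hR'N b.2⟩) = _ from hψe b b.2 (hNext (hR'N b.2))]
        exact congrArg Subtype.val hb
      have e2 : ψ (inclusion hNext g) * a * (ψ (inclusion hNext g))⁻¹ =
          ψ (inclusion hNext ⟨(g : L) * b * (g : L)⁻¹, hR'N hgb⟩) := by
        rw [← e1, ← map_inv, ← map_mul, ← map_mul, ← map_inv, ← map_mul, ← map_mul]
        rfl
      show ψ (inclusion hNext g) * a * (ψ (inclusion hNext g))⁻¹ ∈ R'
      rw [e2, show ψ (inclusion hNext ⟨(g : L) * b * (g : L)⁻¹, hR'N hgb⟩) = _ from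
        hψe _ hgb (hNext (hR'N hgb))]
      exact (δ _).2
    have hlt : Nat.card R' < Nat.card N := card_lt_of_lt inf_le_left (lt_normalizerIn S.2 (lt_of_le_of_ne hR' hne))
    refine ih (Nat.card (S : Subgroup L) - Nat.card N) ?_ N (by omega) (hRR'.trans hR'N) inf_le_left
      (toAut hψN hrngN) (toAut_mem hψN hrngN) fun g hg => ?_
    · have h1 := Subgroup.card_le_of_le hR'
      have h2 : Nat.card N ≤ Nat.card (S : Subgroup L) := Subgroup.card_le_of_le inf_le_left
      omega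
    · show ψ (inclusion hNext ⟨g, hR'N (hRR' hg)⟩) * g ∈ zpowers y
      rw [show ψ (inclusion hNext ⟨g, hR'N (hRR' hg)⟩) = _ from hψe g (hRR' hg) (hNext (hR'N (hRR' hg)))]
      exact hδ g hg

section Theta

variable (h : Fixed S y) (hE : Frame E n)

include h hE

theorem center_eq_zpowers :
    center ↥(S : Subgroup L) = zpowers (⟨y, h.mem⟩ : ↥(S : Subgroup L)) := by
  refine (eq_of_le_of_card_ge (zpowers_le.mpr h.mem_center) ?_).symm
  rw [hE.card_center, Nat.card_zpowers, Subgroup.orderOf_mk, h.ord]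

/-- A nontrivial invariant homomorphism killing every `g` inverted modulo the derived subgroup by an
automorphism that is nontrivial modulo `C(E)`. -/
theorem exists_theta (hev : Even n) :
    ∃ θ : ↥(S : Subgroup L) →* Multiplicative (ZMod 3), θ ≠ 1 ∧
      (∀ φ ∈ (groupFusionSystem (S : Subgroup L)).autGroup (S : Subgroup L), ∀ g, θ (φ g) = θ g) ∧
      ∀ φ ∈ (groupFusionSystem (S : Subgroup L)).autGroup (S : Subgroup L),
        (∃ g, g⁻¹ * φ g ∉ centralizer (E : Set ↥(S : Subgroup L))) →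
        ∀ g, φ g * g ∈ commutator ↥(S : Subgroup L) → θ g = 1 := by
  classical
  set P := ↥(S : Subgroup L)
  set Γ := centralizer (E : Set P) with hΓ
  set D := commutator P with hD
  set A := (groupFusionSystem (S : Subgroup L)).autGroup (S : Subgroup L) with hA
  have hfin : Finite (MulAut P) := Finite.of_injective (fun b : MulAut P => (b : P → P)) DFunLike.coe_injective
  have hΓn : Γ.Normal := hE.normal_centralizer
  obtain ⟨η, q, hq, hηc, hη3, hker, u₀, hu₀⟩ := hE.exists_power_hom hev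
  have hDchar : ∀ φ : MulAut P, ∀ x ∈ D, φ x ∈ D := by
    intro φ x hx
    have := mem_map_of_mem φ.toMonoidHom hx
    rw [hD, commutator_def, map_commutator] at this
    exact commutator_mono le_top le_top this
  have hfixc : ∀ φ ∈ A, ∀ z ∈ center P, φ z = z := by
    intro φ hφ z hz
    rw [center_eq_zpowers h hE] at hz
    obtain ⟨i, rfl⟩ := mem_zpowers_iff.mp hz
    rw [map_zpow, h.aut_fix le_rfl h.mem hφ]
  have hΓD : ∀ φ ∈ A, ∀ u ∈ Γ, u⁻¹ * φ u ∈ D := by
    intro φ hφ u hu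
    have hu' : φ u ∈ Γ := hE.map_mem_centralizer φ hu
    refine (hker ⟨u⁻¹ * φ u, mul_mem (inv_mem hu) hu'⟩).mp ?_
    have e : (⟨u⁻¹ * φ u, mul_mem (inv_mem hu) hu'⟩ : ↥Γ) = ⟨u, hu⟩⁻¹ * ⟨φ u, hu'⟩ := rfl
    rw [e, map_mul, map_inv, inv_mul_eq_one, hq, hq]
    show u ^ q = (φ u) ^ q
    rw [← map_pow, hfixc φ hφ _ (hq ⟨u, hu⟩ ▸ hηc ⟨u, hu⟩)]
  let TD : Subgroup (MulAut P) :=
    SmallEss.chainStab ⊤ (fun i => if i = 0 then D else ⊤) 1 (fun i _ φ _ x hx => by
      split_ifs at hx ⊢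
      · exact hDchar φ x hx
      · trivial)
  have hTD : ∀ φ, φ ∈ TD ↔ ∀ g, g⁻¹ * φ g ∈ D := by
    intro φ
    constructor
    · intro hφ g
      exact hφ.2 0 (by norm_num) g (mem_top g)
    · refine fun hφ => ⟨mem_top _, fun i hi g _ => ?_⟩
      obtain rfl : i = 0 := by omega
      exact hφ g
  -- automorphisms trivial modulo `Γ` are trivial modulo `D`
  have hplus : ∀ φ ∈ A, (∀ g, g⁻¹ * φ g ∈ Γ) → φ ∈ TD := by
    intro φ hφ hφΓ
    have h3 : φ ^ 3 ∈ TD := by
      rw [hTD]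
      intro g
      refine QuotientGroup.eq.mp ?_
      have h1 := pow_apply_mod (K := D) (M := Γ) (hDchar φ) (hΓD φ hφ) (hφΓ g) 3
      show QuotientGroup.mk' D g = QuotientGroup.mk' D ((φ ^ 3) g)
      rw [h1, ← map_pow, show QuotientGroup.mk' D ((g⁻¹ * φ g) ^ 3) = 1 from ?_, mul_one]
      refine (QuotientGroup.eq_one_iff _).mpr ((hker ⟨_, Subgroup.pow_mem _ (hφΓ g) 3⟩).mp ?_)
      have e : (⟨(g⁻¹ * φ g) ^ 3, Subgroup.pow_mem _ (hφΓ g) 3⟩ : ↥Γ) = (⟨_, hφΓ g⟩ : ↥Γ) ^ 3 := rfl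
      rw [e, map_pow, hη3]
    obtain ⟨k, m, hm, hk⟩ := Nat.exists_eq_pow_mul_and_not_dvd (orderOf_pos φ).ne' 3 (by norm_num)
    have hm' : φ ^ m ∈ TD := by
      obtain ⟨-, R0, hR0⟩ := isFullyAutomized_self (F := groupFusionSystem (S : Subgroup L)) S.2 h.saturated
      rw [autInducedBy_self] at hR0
      have hn : ((Inn (S : Subgroup L)).subgroupOf A).Normal :=
        Fusion.inn_subgroupOf_normal _ A
      have hz : IsPGroup 3 ↥(zpowers (⟨φ ^ m, A.pow_mem hφ m⟩ : A)) := by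
        intro z
        refine ⟨k, Subtype.ext ?_⟩
        obtain ⟨i, hi⟩ := mem_zpowers_iff.mp z.2
        rw [SubgroupClass.coe_pow, ← hi, ← zpow_natCast, ← zpow_mul, mul_comm, zpow_mul, zpow_natCast,
          show (⟨φ ^ m, A.pow_mem hφ m⟩ : A) ^ 3 ^ k = 1 from Subtype.ext (by
            show (φ ^ m) ^ 3 ^ k = 1
            rw [← pow_mul, mul_comm, ← hk, pow_orderOf_eq_one]), one_zpow]
        rfl
      have hsup : IsPGroup 3 ↥((R0 : Subgroup A) ⊔ zpowers (⟨φ ^ m, A.pow_mem hφ m⟩ : A)) := by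
        have : ((R0 : Subgroup A)).Normal := hR0 ▸ hn
        exact IsPGroup.to_sup_of_normal_left R0.2 hz
      have hmem := (R0.is_maximal' hsup le_sup_left) ▸
        (mem_sup_right (mem_zpowers _) : (⟨φ ^ m, A.pow_mem hφ m⟩ : A) ∈
          (R0 : Subgroup A) ⊔ zpowers (⟨φ ^ m, A.pow_mem hφ m⟩ : A))
      rw [hR0] at hmem
      obtain ⟨a, ha⟩ := hmem
      rw [hTD]
      intro g
      show g⁻¹ * (φ ^ m) g ∈ D
      rw [show φ ^ m = MulAut.conj a from ha.symm, MulAut.conj_apply]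
      have e : g⁻¹ * (a * g * a⁻¹) = ⁅g⁻¹, a⁆ := by
        simp [commutatorElement_def, mul_assoc]
        exact (inv_inv g).symm
      rw [e]
      exact commutator_mem_commutator (mem_top _) (mem_top _)
    have hcop : IsCoprime (3 : ℤ) (m : ℤ) := by
      rw [Int.isCoprime_iff_gcd_eq_one]
      exact Nat.prime_three.coprime_iff_not_dvd.mpr hm
    obtain ⟨a, b, hab⟩ := hcop
    have e : φ = (φ ^ 3) ^ a * (φ ^ m) ^ b := by
      rw [← zpow_natCast φ 3, ← zpow_natCast φ m, ← zpow_mul, ← zpow_mul, ← zpow_add,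
        show ((3 : ℕ) : ℤ) * a + (m : ℤ) * b = 1 by rw [← hab]; push_cast; ring, zpow_one]
    rw [e]
    exact TD.mul_mem (TD.zpow_mem h3 a) (TD.zpow_mem hm' b)
  -- the others invert modulo `Γ`
  have hminus : ∀ φ ∈ A, (∃ g, g⁻¹ * φ g ∉ Γ) → ∀ g, g * φ g ∈ Γ := by
    intro φ hφ hmv g
    obtain ⟨g₀, hg₀⟩ := hmv
    let π := QuotientGroup.mk' Γ
    have hq3 : Nat.card (P ⧸ Γ) = 3 := by rw [← Subgroup.index_eq_card]; exact hE.index_centralizer
    have hcy : IsCyclic (P ⧸ Γ) := isCyclic_of_prime_card hq3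
    have hp3 : ∀ a : P ⧸ Γ, a ^ 3 = 1 := fun a => by
      have := pow_card_eq_one' (x := a)
      rwa [hq3] at this
    have hg₀Γ : g₀ ∉ Γ := fun hg => hg₀ (mul_mem (inv_mem hg) (hE.map_mem_centralizer φ hg))
    have ha : π g₀ ≠ 1 := fun he => hg₀Γ ((QuotientGroup.eq_one_iff _).mp he)
    have hgen : zpowers (π g₀) = ⊤ := eq_top_of_le_card _ (by
      rw [hq3, Nat.card_zpowers, orderOf_eq_prime (p := 3) (hp3 _) ha])
    have hpow : ∀ w, ∃ i : ℕ, i < 3 ∧ π w = π g₀ ^ i := by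
      intro w
      obtain ⟨i, hi⟩ := RankTwoClass.exists_npow (hgen ▸ mem_top (π w))
      refine ⟨i % 3, Nat.mod_lt _ (by norm_num), ?_⟩
      rw [← hi, ← pow_mod_natCard]
      congr 2
    have hφg₀ : π (φ g₀) = (π g₀)⁻¹ := by
      obtain ⟨i, hi, hiv⟩ := hpow (φ g₀)
      interval_cases i
      · exfalso
        rw [pow_zero] at hiv
        refine hg₀Γ ?_
        have := hE.map_mem_centralizer φ⁻¹ ((QuotientGroup.eq_one_iff _).mp hiv)
        rwa [MulAut.inv_apply_self] at this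
      · exact absurd (QuotientGroup.eq.mp (by rw [hiv, pow_one] : π g₀ = π (φ g₀))) hg₀
      · rw [hiv]
        refine eq_inv_of_mul_eq_one_left ?_
        rw [← pow_succ]
        exact hp3 _
    have hcomm : ∀ a b : P ⧸ Γ, a * b = b * a := hcy.isMulCommutative.is_comm.comm
    obtain ⟨i, -, hi⟩ := hpow g
    rw [← map_pow] at hi
    have hdiff : (g₀ ^ i)⁻¹ * g ∈ Γ := QuotientGroup.eq.mp hi.symm
    have h1 : π (φ g) = π (φ (g₀ ^ i)) := (QuotientGroup.eq.mpr (by
      rw [← map_inv, ← map_mul]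
      exact hE.map_mem_centralizer φ hdiff)).symm
    rw [← QuotientGroup.eq_one_iff]
    show π (g * φ g) = 1
    rw [map_mul, h1, hi, map_pow φ, map_pow, map_pow, hφg₀, inv_pow, mul_inv_cancel]
  have hDcomm : ∀ a b : P, QuotientGroup.mk' D a * QuotientGroup.mk' D b =
      QuotientGroup.mk' D b * QuotientGroup.mk' D a := fun a b => by
    refine commutatorElement_eq_one_iff_mul_comm.mp ?_
    rw [← map_commutatorElement]
    exact (QuotientGroup.eq_one_iff _).mpr (commutator_mem_commutator (mem_top a) (mem_top b))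
  by_cases hex : ∃ φ₀ ∈ A, ∃ g, g⁻¹ * φ₀ g ∉ Γ
  · obtain ⟨φ₀, hφ₀, hmv₀⟩ := hex
    have hinv₀ := hminus φ₀ hφ₀ hmv₀
    have hsq : ∀ φ ∈ A, (∃ g, g⁻¹ * φ g ∉ Γ) → ∀ g, g⁻¹ * φ₀ (φ g) ∈ D := by
      intro φ hφ hmv
      refine (hTD _).mp (hplus (φ₀ * φ) (A.mul_mem hφ₀ hφ) fun g => ?_)
      have h1 := hminus φ hφ hmv g
      have h2 := hinv₀ (φ g)
      rw [← QuotientGroup.eq_one_iff]
      show QuotientGroup.mk' Γ (g⁻¹ * φ₀ (φ g)) = 1
      rw [← QuotientGroup.eq_one_iff] at h1 h2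
      change QuotientGroup.mk' Γ (g * φ g) = 1 at h1
      change QuotientGroup.mk' Γ (φ g * φ₀ (φ g)) = 1 at h2
      rw [map_mul] at h1 h2
      rw [map_mul, map_inv, ← eq_inv_of_mul_eq_one_right h1]
      exact h2
    have hrep : ∀ φ ∈ A, φ ∈ TD ∨ ∀ g, (φ₀ g)⁻¹ * φ g ∈ D := by
      intro φ hφ
      by_cases hmv : ∃ g, g⁻¹ * φ g ∉ Γ
      · refine Or.inr fun g => ?_
        have h1 := hDchar φ₀ _ (hsq φ hφ hmv g)
        have h2 := hsq φ₀ hφ₀ hmv₀ (φ g)
        rw [map_mul, map_inv] at h1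
        have h3 := mul_mem h1 (inv_mem h2)
        rwa [mul_inv_rev, inv_inv, mul_assoc, mul_inv_cancel_left] at h3
      · push Not at hmv
        exact Or.inl (hplus φ hφ hmv)
    let cz : CommGroup ↥(center P) :=
      { (inferInstance : Group ↥(center P)) with
        mul_comm := fun a b => Subtype.ext (mem_center_iff.mp b.2 a) }
    obtain ⟨ξ, hξ⟩ := exists_functional (Q := ↥(center P)) (p := 3)
      (fun z => Subtype.ext (by
        have := congrArg Subtype.val (pow_card_eq_one' (x := z))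
        rw [hE.card_center] at this
        exact this))
      (w := ⟨η u₀, hηc u₀⟩) (fun he => hu₀ (congrArg Subtype.val he))
    let η' : ↥Γ →* ↥(center P) := η.codRestrict _ hηc
    have hη'D : ∀ u v : ↥Γ, (u : P)⁻¹ * v ∈ D → η' u = η' v := by
      intro u v huv
      refine Subtype.ext ?_
      show η u = η v
      rw [← inv_mul_eq_one, ← map_inv, ← map_mul]
      exact (hker _).mpr huv
    let θ : P →* Multiplicative (ZMod 3) :=
      MonoidHom.mk' (fun g => ξ (η' ⟨g * φ₀ g, hinv₀ g⟩)) fun a b => by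
        rw [← map_mul, ← map_mul]
        refine congrArg ξ (hη'D _ (⟨a * φ₀ a, hinv₀ a⟩ * ⟨b * φ₀ b, hinv₀ b⟩) ?_)
        refine QuotientGroup.eq.mp ?_
        show QuotientGroup.mk' D (a * b * φ₀ (a * b)) = QuotientGroup.mk' D (a * φ₀ a * (b * φ₀ b))
        simp only [map_mul]
        rw [mul_assoc (QuotientGroup.mk' D a), ← mul_assoc (QuotientGroup.mk' D b), hDcomm b (φ₀ a)]
        simp only [mul_assoc]
    refine ⟨θ, fun he => ?_, fun φ hφ g => ?_, fun φ hφ hmv g hg => ?_⟩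
    · have h1 : θ (u₀ : P) = ξ ⟨η u₀, hηc u₀⟩ ^ 2 := by
        show ξ (η' ⟨u₀ * φ₀ u₀, hinv₀ u₀⟩) = _
        rw [hη'D _ (u₀ * u₀) ?_, map_mul, map_mul, pow_two]
        · rfl
        · refine QuotientGroup.eq.mp ?_
          show QuotientGroup.mk' D ((u₀ : P) * φ₀ u₀) = QuotientGroup.mk' D ((u₀ : P) * u₀)
          rw [map_mul, map_mul, show QuotientGroup.mk' D (φ₀ u₀) = QuotientGroup.mk' D (u₀ : P) from
            (QuotientGroup.eq.mpr (hΓD φ₀ hφ₀ _ u₀.2)).symm]
      rw [he, MonoidHom.one_apply] at h1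
      have h3 : ξ ⟨η u₀, hηc u₀⟩ ^ 3 = 1 := by
        rw [← map_pow, show (⟨η u₀, hηc u₀⟩ : ↥(center P)) ^ 3 = 1 from Subtype.ext (hη3 u₀), map_one]
      rw [pow_succ, ← h1, one_mul] at h3
      exact hξ h3
    · show ξ (η' ⟨φ g * φ₀ (φ g), hinv₀ _⟩) = ξ (η' ⟨g * φ₀ g, hinv₀ g⟩)
      refine congrArg ξ (hη'D _ _ (QuotientGroup.eq.mp ?_))
      show QuotientGroup.mk' D (φ g * φ₀ (φ g)) = QuotientGroup.mk' D (g * φ₀ g)
      rw [map_mul, map_mul]
      rcases hrep φ hφ with hp | hp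
      · have e1 : QuotientGroup.mk' D (φ g) = QuotientGroup.mk' D g :=
          (QuotientGroup.eq.mpr ((hTD φ).mp hp g)).symm
        have e2 : QuotientGroup.mk' D (φ₀ (φ g)) = QuotientGroup.mk' D (φ₀ g) := by
          refine (QuotientGroup.eq.mpr ?_).symm
          rw [← map_inv, ← map_mul]
          exact hDchar φ₀ _ ((hTD φ).mp hp g)
        rw [e1, e2]
      · have e1 : QuotientGroup.mk' D (φ g) = QuotientGroup.mk' D (φ₀ g) :=
          (QuotientGroup.eq.mpr (hp g)).symm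
        have e2 : QuotientGroup.mk' D (φ₀ (φ g)) = QuotientGroup.mk' D g := by
          have h1 : QuotientGroup.mk' D (φ₀ (φ₀ g)) = QuotientGroup.mk' D g :=
            (QuotientGroup.eq.mpr (hsq φ₀ hφ₀ hmv₀ g)).symm
          rw [← h1]
          refine (QuotientGroup.eq.mpr ?_).symm
          rw [← map_inv, ← map_mul]
          exact hDchar φ₀ _ (hp g)
        rw [e1, e2, hDcomm]
    · show ξ (η' ⟨g * φ₀ g, hinv₀ g⟩) = 1
      have h1 : (g * φ₀ g) ∈ D := by
        rw [← QuotientGroup.eq_one_iff] at hg ⊢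
        show QuotientGroup.mk' D (g * φ₀ g) = 1
        change QuotientGroup.mk' D (φ g * g) = 1 at hg
        rcases hrep φ hφ with hp | hp
        · exfalso
          obtain ⟨g', hg'⟩ := hmv
          exact hg' (hE.commutator_le ((hTD φ).mp hp g'))
        rw [map_mul] at hg ⊢
        have e : QuotientGroup.mk' D (φ₀ g) = QuotientGroup.mk' D (φ g) :=
          QuotientGroup.eq.mpr (hp g)
        rw [e, hDcomm, hg]
      have h2 : η' ⟨g * φ₀ g, hinv₀ g⟩ = 1 := Subtype.ext ((hker _).mpr h1)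
      rw [h2, map_one]
  · push Not at hex
    have hne : (⊤ : Subgroup P) ≠ ⊥ := fun he => by
      have := h.mem_center
      have h1 : (⟨y, h.mem⟩ : P) ∈ (⊥ : Subgroup P) := he ▸ mem_top _
      exact h.ne_one (congrArg Subtype.val (mem_bot.mp h1))
    obtain ⟨M, hM, -⟩ := (eq_top_or_exists_le_coatom (⊥ : Subgroup P)).resolve_left (Ne.symm hne)
    obtain ⟨π, hπs, hπ⟩ := Fusion.Yoshida.exists_hom_ker_eq hE.isPGroup hM
    refine ⟨π, fun he => ?_, fun φ hφ g => ?_, fun φ hφ hmv => ?_⟩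
    · refine hM.1 ?_
      rw [← hπ, he]
      exact MonoidHom.ker_one
    · have h1 := Abelianization.commutator_subset_ker π ((hTD φ).mp (hplus φ hφ (hex φ hφ)) g)
      rw [MonoidHom.mem_ker, map_mul, map_inv, inv_mul_eq_one] at h1
      exact h1.symm
    · obtain ⟨g', hg'⟩ := hmv
      exact absurd (hex φ hφ g') hg'

end Theta

/-- No perfect group has such a Sylow subgroup. -/
theorem Fixed.false_of_max_three (h : Fixed S y) (hn : 4 ≤ n) (hev : Even n)
    (hcard : Nat.card (S : Subgroup L) = 3 ^ n)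
    (hl : (⊤ : Subgroup ↥(S : Subgroup L)).lowerCentralSeries (n - 2) ≠ ⊥) : False := by
  classical
  obtain ⟨E, hE⟩ := exists_frame hn hcard hl h.rank
  obtain ⟨θ, hθ1, hinv, hkill⟩ := exists_theta h hE hev
  set F := groupFusionSystem (S : Subgroup L) with hF
  let f : L → Multiplicative (ZMod 3) := fun g => if hg : g ∈ (S : Subgroup L) then θ ⟨g, hg⟩ else 1
  have hf : ∀ g (hg : g ∈ (S : Subgroup L)), f g = θ ⟨g, hg⟩ := fun g hg => dif_pos hg
  let C : ∀ P : Subgroup L, (P →* L) → Prop := fun P φ => ∀ x : P, f (φ x) = f x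
  have hconj : ∀ (P : Subgroup L) (g : L), P ≤ (S : Subgroup L) → g ∈ (S : Subgroup L) →
      C P (conjHom P g) := by
    intro P g hP hg x
    have hxS := hP x.2
    show f (g * x * g⁻¹) = f x
    rw [hf _ (mul_mem (mul_mem hg hxS) (inv_mem hg)), hf _ hxS]
    have : (⟨g * (x : L) * g⁻¹, mul_mem (mul_mem hg hxS) (inv_mem hg)⟩ : ↥(S : Subgroup L)) =
        ⟨g, hg⟩ * ⟨x, hxS⟩ * ⟨g, hg⟩⁻¹ := rfl
    rw [this, map_mul, map_mul, map_inv, mul_inv_cancel_comm]
  have hcomp : ∀ (P Q : Subgroup L) (φ : P →* L) (ψ : Q →* L), φ ∈ F.Hom P → ψ ∈ F.Hom Q →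
      C P φ → C Q ψ → ∀ hq : ∀ x : P, φ x ∈ Q, C P (ψ.comp (φ.codRestrict Q hq)) :=
    fun P Q φ ψ _ _ h1 h2 hq x => (h2 _).trans (h1 x)
  have hinvC : ∀ (P : Subgroup L) (φ : P →* L) (ψ : φ.range →* L), φ ∈ F.Hom P → C P φ →
      ψ ∈ F.Hom φ.range → (∀ x : P, ψ ⟨φ x, ⟨x, rfl⟩⟩ = (x : L)) → C φ.range ψ := by
    intro P φ ψ _ h1 _ hψ
    rintro ⟨_, x, rfl⟩
    rw [hψ x]
    exact (h1 x).symm
  have hall : F ≤ subsystemOf F C hconj hcomp hinvC := by
    refine alperin_essential S.2 h.saturated _ fun R hR α hα => ?_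
    have hRS : R ≤ (S : Subgroup L) := by
      rcases hR with rfl | hR
      · exact le_rfl
      · exact hR.1.1
    refine (mem_autGroup_iff hRS).2 ⟨(mem_autGroup_iff hRS).1 hα, fun x => ?_⟩
    show f (α x : L) = f x
    rw [hf _ (hRS (α x).2), hf _ (hRS x.2)]
    rcases hR with rfl | hR
    · exact hinv α hα x
    · obtain ⟨hc, hexp⟩ := essential_shape h hE hR
      have hP : PearlAt S y E R := ⟨hRS, h.mem_of_centric hR.1, hc, hexp⟩
      obtain ⟨γ, hγ, hγi⟩ := hP.exists_inversion h hE hR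
      have hγ' : ∀ g (hg : g ∈ R), (γ ⟨g, hg⟩ : L) * g ∈ zpowers y := by
        intro g hg
        obtain ⟨i, hi⟩ := mem_zpowers_iff.mp ((hP.center_eq h hE).1 ▸ hγi ⟨g, hg⟩)
        exact mem_zpowers_iff.mpr ⟨i, by simpa using congrArg Subtype.val hi⟩
      obtain ⟨φ, hφ, hφi⟩ := extend_inversion h hE hP (Nat.card (S : Subgroup L)) R
        (Nat.le_add_left _ _) le_rfl hRS γ hγ hγ'
      have hD : ∀ a : ↥R, φ (inclusion hRS a) * inclusion hRS a ∈ commutator ↥(S : Subgroup L) := by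
        intro a
        refine hE.center_le_commutator ?_
        rw [center_eq_zpowers h hE]
        obtain ⟨i, hi⟩ := mem_zpowers_iff.mp (hφi a a.2)
        exact mem_zpowers_iff.mpr ⟨i, Subtype.ext ((SubgroupClass.coe_zpow _ _).trans hi)⟩
      have hmv : ∃ g, g⁻¹ * φ g ∉ centralizer (E : Set ↥(S : Subgroup L)) := by
        obtain ⟨a, ha⟩ := hP.exists_outside h hE
        refine ⟨inclusion hRS a, fun hc' => ha ?_⟩
        set b := inclusion hRS a with hb
        have := hE.normal_centralizer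
        have h1 := (QuotientGroup.eq_one_iff _).mpr (hE.commutator_le (hD a))
        have h2 := (QuotientGroup.eq_one_iff _).mpr hc'
        rw [QuotientGroup.mk_mul] at h1 h2
        rw [QuotientGroup.mk_inv, inv_mul_eq_one] at h2
        rw [← h2] at h1
        have h3 : (b : ↥(S : Subgroup L) ⧸ centralizer (E : Set ↥(S : Subgroup L))) ^ 3 = 1 := by
          rw [← QuotientGroup.mk_pow, hb, ← map_pow, hP.exp a, map_one, QuotientGroup.mk_one]
        rw [pow_succ, pow_two, h1, one_mul] at h3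
        exact (QuotientGroup.eq_one_iff _).mp h3
      have hk : ∀ a : ↥R, θ (inclusion hRS a) = 1 := fun a => hkill φ hφ hmv _ (hD a)
      show θ (inclusion hRS (α x)) = θ (inclusion hRS x)
      rw [hk, hk]
  refine hθ1 (h.hom_eq_one θ fun P φ hφ x => ?_)
  have h1 := (hall P hφ).2 x
  rwa [hf _ (apply_mem hφ x), hf _ (dom_le hφ x.2)] at h1

end Cfsg.Agent.IsolatedRankTwo
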